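import Cfsg.Agent.ChevalleyStructure.SignedSymm
import Cfsg.Agent.ChevalleyStructure.RootVec
import Cfsg.Agent.ChevalleyStructure.Elts
import Cfsg.Agent.Lib.FinFast
import Cfsg.Agent.Prune
set_option linter.all false
open scoped Cfsg.Agent.FastGrp

/-!
# The Chevalley involution of the tabulated groups (helper405)

`e_r ↦ -e_{-r}`, `h ↦ -h` : `negSymm hD : SignedSymm.Symm D`.
-/

set_option autoImplicit false

namespace Cfsg.Agent.H405.UE

open Cfsg.Lie Cfsg.Agent.ChevalleyStructure Cfsg.Agent.ChevalleyStructure.Elts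
  Cfsg.Agent.ChevalleyStructure.RootVec Cfsg.Agent.ChevalleyStructure.SignedSymm

/-- the entries of a chain, negated -/
def negE (m : ℕ) (l : List (ℕ × ℤ)) : List (ℕ × ℤ) :=
  l.zipIdx.map fun q => (m - q.1.1, (-1) ^ (q.2 + 1) * q.1.2)

/-- a row of the chain table, without arrays -/
def rowL (a : Array (ℕ × Array (ℕ × ℤ))) : List (ℕ × List (ℕ × ℤ)) := a.toList.map fun e => (e.1, e.2.toList)

/-- a row of the chain table, negated -/
def negRow (m : ℕ) (l : List (ℕ × List (ℕ × ℤ))) : List (ℕ × List (ℕ × ℤ)) :=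
  l.reverse.map fun e => (m - e.1, negE m e.2)

/-- the check of the chain table -/
def chkNT (D : ChevalleyDatum) : Bool :=
  decide (D.chain.toList.reverse.map rowL = D.chain.toList.map fun a => negRow (D.nroots - 1) (rowL a))

/-- the check of the coroots -/
def chkCoNeg (D : ChevalleyDatum) : Bool :=
  decide (D.coroot.toList.reverse.map Array.toList = D.coroot.toList.map fun a => a.toList.map fun c => -c)

theorem chkCoNeg_G2 : chkCoNeg chevG2 = true := by decide +kernel
theorem chkCoNeg_B2 : chkCoNeg chevB2 = true := by decide +kernel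
theorem chkCoNeg_D4 : chkCoNeg chevD4 = true := by decide +kernel
theorem chkCoNeg_F4 : chkCoNeg chevF4 = true := by decide +kernel
theorem chkCoNeg_E6 : chkCoNeg chevE6 = true := by decide +kernel
theorem chkCoNeg_E7 : chkCoNeg chevE7 = true := by decide +kernel
theorem chkCoNeg_E8 : chkCoNeg chevE8 = true := by decide +kernel

theorem chkNT_G2 : chkNT chevG2 = true := by decide +kernel
theorem chkNT_B2 : chkNT chevB2 = true := by decide +kernel
theorem chkNT_D4 : chkNT chevD4 = true := by decide +kernel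
private noncomputable def _root_.Cfsg.Agent.LsF.f896ea2_0 : {f // @Cfsg.Agent.H405.UE.rowL = f} := ⟨_, by first | (delta Cfsg.Agent.H405.UE.rowL; rewrite [Cfsg.Agent.LsF.map_eq]; exact rfl) | exact rfl⟩
private noncomputable def _root_.Cfsg.Agent.LsF.f896ea2_1 : {f // @Cfsg.Agent.H405.UE.negE = f} := ⟨_, by first | (delta Cfsg.Agent.H405.UE.negE; rewrite [Cfsg.Agent.LsF.nadd_pat, Cfsg.Agent.LsF.nsub_pat, Cfsg.Agent.LsF.imul_pat, Cfsg.Agent.LsF.ineg_pat, Cfsg.Agent.LsF.map_eq, Cfsg.Agent.LsF.zipIdx_eq]; exact rfl) | exact rfl⟩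
private noncomputable def _root_.Cfsg.Agent.LsF.f896ea2_2 : {f // @Cfsg.Agent.H405.UE.negRow = f} := ⟨_, by first | (delta Cfsg.Agent.H405.UE.negRow; rewrite [Cfsg.Agent.LsF.f896ea2_1.2, Cfsg.Agent.LsF.nsub_pat, Cfsg.Agent.LsF.map_eq, Cfsg.Agent.LsF.reverse_eq]; exact rfl) | exact rfl⟩
private noncomputable def _root_.Cfsg.Agent.LsF.f896ea2_3 : {f // @Cfsg.Agent.H405.UE.chkNT = f} := ⟨_, by first | (delta Cfsg.Agent.H405.UE.chkNT; rewrite [Cfsg.Agent.LsF.f896ea2_0.2, Cfsg.Agent.LsF.f896ea2_2.2, Cfsg.Agent.LsF.nsub_pat, Cfsg.Agent.LsF.dProdEq_eq, Cfsg.Agent.LsF.instDecEq_eq, Cfsg.Agent.LsF.map_eq, Cfsg.Agent.LsF.reverse_eq, Cfsg.Agent.LsF.instIDecEq_eq, Cfsg.Agent.LsF.dListEq_eq, Cfsg.Agent.LsF.decide_eq]; exact rfl) | exact rfl⟩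
theorem chkNT_F4 : chkNT chevF4 = true := by ((try (rewrite [Cfsg.Agent.LsF.f896ea2_3.2])); decide +kernel)
theorem chkNT_E6 : chkNT chevE6 = true := by ((try (rewrite [Cfsg.Agent.LsF.f896ea2_3.2])); decide +kernel)
theorem chkNT_E7 : chkNT chevE7 = true := by ((try (rewrite [Cfsg.Agent.LsF.f896ea2_3.2])); decide +kernel)
theorem chkNT_E8 : chkNT chevE8 = true := by ((try (rewrite [Cfsg.Agent.LsF.f896ea2_3.2])); decide +kernel)

theorem chkCoNeg_eq {D : ChevalleyDatum} (hD : InList D) : chkCoNeg D = true := by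
  simp only [InList, List.mem_cons, List.not_mem_nil, or_false] at hD
  rcases hD with rfl | rfl | rfl | rfl | rfl | rfl | rfl
  exacts [chkCoNeg_G2, chkCoNeg_B2, chkCoNeg_D4, chkCoNeg_F4, chkCoNeg_E6, chkCoNeg_E7, chkCoNeg_E8]

theorem chkNT_eq {D : ChevalleyDatum} (hD : InList D) : chkNT D = true := by
  simp only [InList, List.mem_cons, List.not_mem_nil, or_false] at hD
  rcases hD with rfl | rfl | rfl | rfl | rfl | rfl | rfl
  exacts [chkNT_G2, chkNT_B2, chkNT_D4, chkNT_F4, chkNT_E6, chkNT_E7, chkNT_E8]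

variable {D : ChevalleyDatum}

theorem rowL_neg (hD : InList D) (hc : RootVecTab.Checked D) {r : ℕ} (hr : r < D.nroots) :
    rowL (D.chain.getD (D.neg r) #[]) = negRow (D.nroots - 1) (rowL (D.chain.getD r #[])) := by
  have h := of_decide_eq_true (chkNT_eq hD)
  have hl := chain_size hc
  have h1 : r < D.chain.toList.length := by rw [hl]; exact hr
  have hn := RootVec.neg_lt hc hr
  have h2 : D.neg r < D.chain.toList.length := by rw [hl]; exact hn
  have h3 := congrArg (fun L => L[r]?) h
  simp only [List.getElem?_map] at h3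
  rw [List.getElem?_reverse (by rw [hl]; exact hr), hl, ← neg_eq hc hr, List.getElem?_eq_getElem h2,
    List.getElem?_eq_getElem h1, Option.map_some, Option.map_some, Option.some.injEq,
    ← getD_toList D.chain #[] h2, ← getD_toList D.chain #[] h1] at h3
  exact h3

theorem co_neg (hD : InList D) (hc : RootVecTab.Checked D) {r : ℕ} (hr : r < D.nroots) (i : ℕ) :
    co D (D.neg r) i = - co D r i := by
  have h := of_decide_eq_true (chkCoNeg_eq hD)
  have h0 := hc.chkCoroot
  simp only [RootVecTab.chkCoroot, Bool.and_eq_true, beq_iff] at h0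
  have hl : D.coroot.toList.length = D.nroots := by rw [Array.length_toList]; exact h0.1
  have h1 : r < D.coroot.toList.length := by rw [hl]; exact hr
  have hn := RootVec.neg_lt hc hr
  have h2 : D.neg r < D.coroot.toList.length := by rw [hl]; exact hn
  have h3 := congrArg (fun L => L[r]?) h
  simp only [List.getElem?_map] at h3
  rw [List.getElem?_reverse (by rw [hl]; exact hr), hl, ← neg_eq hc hr, List.getElem?_eq_getElem h2,
    List.getElem?_eq_getElem h1, Option.map_some, Option.map_some, Option.some.injEq,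
    ← getD_toList D.coroot #[] h2, ← getD_toList D.coroot #[] h1] at h3
  rw [co_def, co_def]
  generalize D.coroot.getD (D.neg r) #[] = a at h3 ⊢
  generalize D.coroot.getD r #[] = b at h3 ⊢
  rw [Array.getD_eq_getD_getElem?, Array.getD_eq_getD_getElem?, ← Array.getElem?_toList, h3,
    List.getElem?_map, Array.getElem?_toList]
  cases b[i]? <;> simp

/-- in a row with increasing keys at most one entry has a given key -/
theorem filter_key {α : Type*} (L : List (ℕ × α)) (h : (L.map Prod.fst).Pairwise (· < ·)) (s : ℕ) :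
    L.filter (fun e => decide (e.1 = s)) = [] ∨ ∃ e, L.filter (fun e => decide (e.1 = s)) = [e] := by
  induction L with
  | nil => left; rfl
  | cons a L ih =>
    rw [List.map_cons, List.pairwise_cons] at h
    by_cases ha : a.1 = s
    · right
      refine ⟨a, ?_⟩
      rw [List.filter_cons, if_pos (by simpa using ha)]
      congr 1
      rw [List.filter_eq_nil_iff]
      intro e he
      have := h.1 e.1 (List.mem_map_of_mem he)
      simp only [decide_eq_true_eq]
      omega
    · rw [List.filter_cons, if_neg (by simpa using ha)]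
      exact ih h.2

theorem reverse_filter_key {α : Type*} (L : List (ℕ × α)) (h : (L.map Prod.fst).Pairwise (· < ·)) (s : ℕ) :
    (L.reverse).filter (fun e => decide (e.1 = s)) = L.filter (fun e => decide (e.1 = s)) := by
  rw [List.filter_reverse]
  rcases filter_key L h s with h1 | ⟨e, h1⟩ <;> rw [h1] <;> rfl

/-- the chain coefficients from the rows without arrays -/
def ccL (L : List (ℕ × List (ℕ × ℤ))) (s u : ℕ) : List (ℕ × ℤ) :=
  (L.filter (fun e => decide (e.1 = s))).flatMap fun e =>
    ((e.2.zipIdx).filter (fun q => decide (q.1.1 = u))).map fun q => (q.2 + 1, q.1.2)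

theorem chainCoeff_ccL (D : ChevalleyDatum) (r s u : ℕ) : D.chainCoeff r s u = ccL (rowL (D.chain.getD r #[])) s u := by
  unfold ChevalleyDatum.chainCoeff ccL rowL
  rw [List.filter_map, List.flatMap_map]
  rfl

theorem zipIdx_negE (m : ℕ) (l : List (ℕ × ℤ)) :
    (negE m l).zipIdx = l.zipIdx.map fun q => ((m - q.1.1, (-1) ^ (q.2 + 1) * q.1.2), q.2) := by
  unfold negE
  apply List.ext_getElem?
  intro i
  simp only [List.getElem?_zipIdx, List.getElem?_map, Option.map_map]
  cases l[i]? <;> simp

theorem flatMap_congr' {α β : Type*} {l : List α} {f g : α → List β} (h : ∀ a ∈ l, f a = g a) :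
    l.flatMap f = l.flatMap g := by
  induction l with
  | nil => rfl
  | cons a l ih =>
    rw [List.flatMap_cons, List.flatMap_cons, h a List.mem_cons_self, ih fun b hb => h b (List.mem_cons_of_mem _ hb)]

theorem ccL_negRow {m : ℕ} {L : List (ℕ × List (ℕ × ℤ))} (hL : (L.map Prod.fst).Pairwise (· < ·))
    (hk : ∀ e ∈ L, e.1 ≤ m ∧ ∀ q ∈ e.2, q.1 ≤ m) {s u : ℕ} (hs : s ≤ m) (hu : u ≤ m) :
    ccL (negRow m L) (m - s) (m - u) = (ccL L s u).map fun q => (q.1, (-1) ^ q.1 * q.2) := by
  unfold ccL negRow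
  rw [List.filter_map, List.flatMap_map, List.map_flatMap]
  have h1 : List.filter ((fun e : ℕ × List (ℕ × ℤ) => decide (e.1 = m - s)) ∘ fun e => (m - e.1, negE m e.2)) L.reverse =
      List.filter (fun e => decide (e.1 = s)) L := by
    rw [← reverse_filter_key L hL s]
    apply List.filter_congr
    intro e he
    have := (hk e (List.mem_reverse.1 he)).1
    simp only [Function.comp_apply, decide_eq_decide]
    omega
  rw [h1]
  apply flatMap_congr'
  intro e he
  have hke := (hk e (List.mem_of_mem_filter he)).2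
  rw [zipIdx_negE, List.filter_map, List.map_map, List.map_map]
  have h2 : List.filter ((fun q : (ℕ × ℤ) × ℕ => decide (q.1.1 = m - u)) ∘
      fun q => ((m - q.1.1, (-1) ^ (q.2 + 1) * q.1.2), q.2)) e.2.zipIdx =
      List.filter (fun q => decide (q.1.1 = u)) e.2.zipIdx := by
    apply List.filter_congr
    intro q hq
    have h3 : q.1 ∈ e.2 := by
      obtain ⟨a, i⟩ := q
      exact List.fst_mem_of_mem_zipIdx hq
    have := hke _ h3
    simp only [Function.comp_apply, decide_eq_decide]
    omega
  rw [h2]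
  rfl

theorem chainCoeff_neg_neg (hD : InList D) (hc : RootVecTab.Checked D) {r s u : ℕ} (hr : r < D.nroots)
    (hs : s < D.nroots) (hu : u < D.nroots) : D.chainCoeff (D.neg r) (D.neg s) (D.neg u) =
      (D.chainCoeff r s u).map fun q => (q.1, (-1) ^ q.1 * q.2) := by
  rw [chainCoeff_ccL, chainCoeff_ccL, rowL_neg hD hc hr, neg_eq hc hs, neg_eq hc hu]
  apply ccL_negRow
  · have := row_pairwise hc r
    rw [row_def] at this
    unfold rowL
    rw [List.map_map]
    exact this
  · intro e he
    unfold rowL at he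
    obtain ⟨e, he', rfl⟩ := List.mem_map.1 he
    clear he
    have h1 := key_lt hc (D := D) (r := r) (e := e) he'
    refine ⟨by show e.1 ≤ _; omega, fun q hq => ?_⟩
    obtain ⟨k, hk⟩ := List.mem_iff_getElem?.1 hq
    have h2 := (row_entry hc (r := r) (e := e) he' hk).1
    omega
  · omega
  · omega

/-- **The Chevalley involution** `e_r ↦ -e_{-r}`, `h ↦ -h`. -/
def negSymm (hD : InList D) : Symm D :=
  have hc : RootVecTab.Checked D := RootVecTab.checked_of_mem hD
  { σ := ⟨fun r => ⟨D.neg r, RootVec.neg_lt hc r.2⟩, fun r => ⟨D.neg r, RootVec.neg_lt hc r.2⟩,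
      fun r => Fin.ext (RootVec.neg_neg hc r.2), fun r => Fin.ext (RootVec.neg_neg hc r.2)⟩
    σ₀ := Equiv.refl _
    ε := fun _ => -1
    δ := fun _ => -1
    ε_sq := fun _ => rfl
    δ_sq := fun _ => rfl
    cartan_eq := fun i r => by
      have := cartan_neg hc i.2 r.2
      rw [neg_one_mul]
      exact this
    coroot_eq := fun i r => by
      have := co_neg hD hc r.2 i
      rw [neg_one_mul]
      exact this
    neg_iff := fun r s => by
      show D.neg s = D.neg (D.neg r) ↔ s.val = D.neg r
      rw [RootVec.neg_neg hc r.2]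
      constructor
      · intro h; rw [← h, RootVec.neg_neg hc s.2]
      · intro h; rw [h, RootVec.neg_neg hc r.2]
    ε_neg := fun _ _ _ => rfl
    chain_eq := fun r s u => by
      have := chainCoeff_neg_neg hD hc r.2 s.2 u.2
      refine this.trans (List.map_congr_left fun q _ => ?_)
      norm_num }

/-- **The Chevalley involution of `D.group F`** sends `x_r(t)` to `x_{-r}(-t)`. -/
theorem negAut_xG (hD : InList D) {F : Type*} [Field F] (r : ℕ) (t : F) (h : r < D.nroots) :
    ((negSymm hD).aut F ⟨xG hD r t, xG_mem_group hD r t⟩ : GL D.Idx F) = xG hD (D.neg r) (-t) := by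
  have h1 := (negSymm hD).aut_x F ⟨xG hD r t, xG_mem_group hD r t⟩ ⟨r, h⟩ t rfl
  apply Units.ext
  rw [h1]
  show D.x F (D.neg r) (((-1 : ℤ) : F) * t) = D.x F (D.neg r) (-t)
  norm_num

end Cfsg.Agent.H405.UE
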