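import Mathlib
import Cfsg.Agent.H129.TorusChar
import Cfsg.Agent.H45.Uni.Q.Transfer
import Cfsg.Agent.H405.UE.NegSymm
import Cfsg.Agent.FastGrp
import Cfsg.Agent.Prune
set_option linter.all false

section
prune_inst 0x7ffcfdf92fb8addfdfff7ffffed3dffdf9f95fffaffffdcbffe861ff2fdf770acde56b9d09e050fe1ff7e09410b87803fb7eefffea6bdc7ffffd5ff45ffbee5fe5f7bd0851de8cb40fbc0fff63f07f8e7f3fffffffffffffffffffffffffffbeffffffffffff

-- part: H564/U/Def
section
prune_inst 0x302045006500020000000000400000206800000000230000218009000009010080020b200200000000a020000004000811000040420000000a000000000001000000500002000104060008800004000000000000000000000000000000000000000000000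
set_option linter.all false
open scoped Cfsg.Agent.FastGrp

-- part: H564/U/Pol
section
/-!
# Polynomial functions on a group with one-parameter subgroups (helper564)

`G` a group, `k` an infinite field, `z : R → k → G` a family of one-parameter subgroups.

* `Srf z σ` : the maps `(σ → k) → G` which are products of constants and `v ↦ z r (f v)`, `f` a polynomial;
* `IsPol z f` : `f : G → k` is polynomial on all these maps, with bounded degree on the curves `g * z r s * h`;
* `IsPol.cancel` : `f A = f' A`, `A 1 ≠ 0` imply `f = f'`;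
* `IsPol.exists_root` : `B ^ N = E A ^ N`, `A 1 ≠ 0` imply `B = c A` for a polynomial function `c`.
-/

set_option autoImplicit false
set_option linter.unusedSectionVars false

namespace Cfsg.Agent.H564.U

open MvPolynomial

variable {R G k : Type*} [Field k] [Group G]

/-- products of constants and `v ↦ z r (f v)`, `f` a polynomial -/
def Srf (z : R → k → G) (σ : Type) : Subgroup ((σ → k) → G) :=
  Subgroup.closure ({W | ∃ g : G, W = fun _ => g} ∪ {W | ∃ (r : R) (f : MvPolynomial σ k), W = fun v => z r (eval v f)})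

/-- `f` is a polynomial function on `G` (with respect to the one-parameter subgroups `z r`) -/
structure IsPol (z : R → k → G) (f : G → k) : Prop where
  srf : ∀ (σ : Type), ∀ W ∈ Srf z σ, ∃ P : MvPolynomial σ k, ∀ v, f (W v) = eval v P
  bdd : ∃ N : ℕ, ∀ r g h, ∃ P : Polynomial k, P.natDegree ≤ N ∧ ∀ s, f (g * z r s * h) = P.eval s

section srf

variable {z : R → k → G} {σ τ : Type}

theorem const_mem (g : G) : (fun _ => g : (σ → k) → G) ∈ Srf z σ := Subgroup.subset_closure (Or.inl ⟨g, rfl⟩)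

theorem z_mem (r : R) (f : MvPolynomial σ k) : (fun v => z r (eval v f) : (σ → k) → G) ∈ Srf z σ :=
  Subgroup.subset_closure (Or.inr ⟨r, f, rfl⟩)

theorem comp_mem {W : (τ → k) → G} (hW : W ∈ Srf z τ) (p : τ → MvPolynomial σ k) :
    (fun v => W (fun j => eval v (p j)) : (σ → k) → G) ∈ Srf z σ := by
  induction hW using Subgroup.closure_induction with
  | mem W hW =>
    rcases hW with ⟨g, rfl⟩ | ⟨r, f, rfl⟩
    · exact const_mem g
    · have h := z_mem (z := z) r (bind₁ p f)
      have e : (fun v => z r (eval v (bind₁ p f))) = fun v => z r (eval (fun j => eval v (p j)) f) := by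
        funext v
        rw [← aeval_eq_eval, aeval_bind₁]
        rfl
      rw [e] at h
      exact h
  | one => exact Subgroup.one_mem _
  | mul W W' _ _ h1 h2 => exact Subgroup.mul_mem _ h1 h2
  | inv W _ h => exact Subgroup.inv_mem _ h

end srf

namespace IsPol

variable {z : R → k → G} {f f' A B E : G → k}

theorem const (c : k) : IsPol z (fun _ => c) where
  srf σ W _ := ⟨C c, fun v => by rw [eval_C]⟩
  bdd := ⟨0, fun r g h => ⟨Polynomial.C c, by simp, fun s => by simp⟩⟩

theorem add (h : IsPol z f) (h' : IsPol z f') : IsPol z (fun g => f g + f' g) where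
  srf σ W hW := by
    obtain ⟨P, hP⟩ := h.srf σ W hW
    obtain ⟨P', hP'⟩ := h'.srf σ W hW
    exact ⟨P + P', fun v => by rw [hP, hP', map_add]⟩
  bdd := by
    obtain ⟨N, hN⟩ := h.bdd
    obtain ⟨N', hN'⟩ := h'.bdd
    refine ⟨N + N', fun r a b => ?_⟩
    obtain ⟨P, hP, hP2⟩ := hN r a b
    obtain ⟨P', hP', hP2'⟩ := hN' r a b
    exact ⟨P + P', (Polynomial.natDegree_add_le _ _).trans (max_le (by omega) (by omega)), fun s => by
      rw [hP2, hP2', Polynomial.eval_add]⟩

theorem mul (h : IsPol z f) (h' : IsPol z f') : IsPol z (fun g => f g * f' g) where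
  srf σ W hW := by
    obtain ⟨P, hP⟩ := h.srf σ W hW
    obtain ⟨P', hP'⟩ := h'.srf σ W hW
    exact ⟨P * P', fun v => by rw [hP, hP', map_mul]⟩
  bdd := by
    obtain ⟨N, hN⟩ := h.bdd
    obtain ⟨N', hN'⟩ := h'.bdd
    refine ⟨N + N', fun r a b => ?_⟩
    obtain ⟨P, hP, hP2⟩ := hN r a b
    obtain ⟨P', hP', hP2'⟩ := hN' r a b
    exact ⟨P * P', Polynomial.natDegree_mul_le.trans (by omega), fun s => by
      rw [hP2, hP2', Polynomial.eval_mul]⟩

theorem smul (c : k) (h : IsPol z f) : IsPol z (fun g => c * f g) := (const c).mul h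

theorem pow (h : IsPol z f) (n : ℕ) : IsPol z (fun g => f g ^ n) := by
  induction n with
  | zero => simpa using const (z := z) (1 : k)
  | succ n ih => simpa only [pow_succ] using ih.mul h

theorem sub (h : IsPol z f) (h' : IsPol z f') : IsPol z (fun g => f g - f' g) := by
  have := h.add (h'.smul (-1))
  simpa [sub_eq_add_neg] using this

theorem sum {α : Type*} (s : Finset α) {F : α → G → k} (h : ∀ a ∈ s, IsPol z (F a)) :
    IsPol z (fun g => ∑ a ∈ s, F a g) := by
  classical
  induction s using Finset.induction_on with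
  | empty => simpa using const (z := z) (0 : k)
  | insert a s ha ih =>
    simp only [Finset.sum_insert ha]
    exact (h a (Finset.mem_insert_self _ _)).add (ih fun b hb => h b (Finset.mem_insert_of_mem hb))

theorem prod {α : Type*} (s : Finset α) {F : α → G → k} (h : ∀ a ∈ s, IsPol z (F a)) :
    IsPol z (fun g => ∏ a ∈ s, F a g) := by
  classical
  induction s using Finset.induction_on with
  | empty => simpa using const (z := z) (1 : k)
  | insert a s ha ih =>
    simp only [Finset.prod_insert ha]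
    exact (h a (Finset.mem_insert_self _ _)).mul (ih fun b hb => h b (Finset.mem_insert_of_mem hb))

theorem det {n : ℕ} {F : Fin n → Fin n → G → k} (h : ∀ a b, IsPol z (F a b)) :
    IsPol z (fun g => Matrix.det (Matrix.of fun a b => F a b g)) := by
  simp only [Matrix.det_apply', Matrix.of_apply]
  exact sum _ fun σ _ => (prod _ fun i _ => h _ _).smul _

theorem trans (h : IsPol z f) (a b : G) : IsPol z (fun g => f (a * g * b)) where
  srf σ W hW := by
    have h1 : (fun v => a * W v * b) ∈ Srf z σ :=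
      Subgroup.mul_mem _ (Subgroup.mul_mem _ (const_mem a) hW) (const_mem b)
    exact h.srf σ _ h1
  bdd := by
    obtain ⟨N, hN⟩ := h.bdd
    refine ⟨N, fun r c d => ?_⟩
    obtain ⟨P, hP, hP2⟩ := hN r (a * c) (d * b)
    refine ⟨P, hP, fun s => ?_⟩
    rw [← hP2]
    congr 1
    group

theorem left (h : IsPol z f) (a : G) : IsPol z (fun g => f (a * g)) := by simpa using h.trans a 1

theorem right (h : IsPol z f) (b : G) : IsPol z (fun g => f (g * b)) := by simpa using h.trans 1 b

end IsPol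

/-! ### paths to `1` -/

/-- the parameters `v : σ → k` and one more parameter -/
def ext {σ : Type} {k : Type*} (v : σ → k) (u : k) : Option σ → k := fun o => o.elim u v

section path

variable {z : R → k → G}

theorem exists_path (hz : ∀ r, z r 0 = 1) (hgen : Subgroup.closure {g : G | ∃ r a, g = z r a} = ⊤) (g : G) :
    ∃ W ∈ Srf z Unit, W (fun _ => 0) = g ∧ W (fun _ => 1) = 1 := by
  have hg : g ∈ Subgroup.closure {g : G | ∃ r a, g = z r a} := by rw [hgen]; trivial
  induction hg using Subgroup.closure_induction with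
  | mem g hg =>
    obtain ⟨r, a, rfl⟩ := hg
    refine ⟨_, z_mem r (C a * (1 - X ())), ?_, ?_⟩
    · simp
    · simp [hz]
  | one => exact ⟨fun _ => 1, const_mem 1, rfl, rfl⟩
  | mul g h _ _ h1 h2 =>
    obtain ⟨W, hW, e1, e2⟩ := h1
    obtain ⟨W', hW', e1', e2'⟩ := h2
    exact ⟨W * W', Subgroup.mul_mem _ hW hW', by rw [Pi.mul_apply, e1, e1'], by rw [Pi.mul_apply, e2, e2', one_mul]⟩
  | inv g _ h1 =>
    obtain ⟨W, hW, e1, e2⟩ := h1
    exact ⟨W⁻¹, Subgroup.inv_mem _ hW, by rw [Pi.inv_apply, e1], by rw [Pi.inv_apply, e2, inv_one]⟩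

variable [Infinite k]

theorem IsPol.cancel {f f' A : G → k} (hz : ∀ r, z r 0 = 1)
    (hgen : Subgroup.closure {g : G | ∃ r a, g = z r a} = ⊤) (h : IsPol z f) (h' : IsPol z f') (hA : IsPol z A)
    (h1 : A 1 ≠ 0) (e : ∀ g, f g * A g = f' g * A g) : f = f' := by
  funext g
  obtain ⟨W, hW, e1, e2⟩ := exists_path hz hgen g
  obtain ⟨P, hP⟩ := h.srf _ W hW
  obtain ⟨P', hP'⟩ := h'.srf _ W hW
  obtain ⟨Q, hQ⟩ := hA.srf _ W hW
  have hQ0 : Q ≠ 0 := by
    rintro rfl
    apply h1
    rw [← e2, hQ, map_zero]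
  have h2 : P * Q = P' * Q := by
    apply MvPolynomial.funext
    intro v
    rw [map_mul, map_mul, ← hP, ← hP', ← hQ, e]
  have h3 := mul_right_cancel₀ hQ0 h2
  rw [← e1, hP, hP', h3]

theorem dvd_of_pow {σ : Type} {N : ℕ} (hN : N ≠ 0) {a b e : MvPolynomial σ k} (h : b ^ N = e * a ^ N) : a ∣ b :=
  (IsIntegrallyClosed.pow_dvd_pow_iff hN).1 ⟨e, by rw [h, mul_comm]⟩

end path

section root

variable {z : R → k → G} [Infinite k]

theorem ext_some {σ : Type} (v : σ → k) (u : k) (i : σ) : ext v u (some i) = v i := rfl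
theorem ext_none {σ : Type} (v : σ → k) (u : k) : ext v u none = u := rfl

/-- restriction of the extra parameter to the value `u` -/
theorem eval_ext {σ : Type} (P : MvPolynomial (Option σ) k) (v : σ → k) (u : k) :
    eval (ext v u) P = eval v (bind₁ (fun o : Option σ => o.elim (C u) X) P) := by
  rw [← aeval_eq_eval v, aeval_bind₁]
  change _ = eval _ P
  congr 1
  congr 1
  funext o
  cases o with
  | none => simp [ext]
  | some i => simp [ext]

theorem eval_ext' {σ : Type} (P : MvPolynomial (Option σ) k) (v : σ → k) (u : Unit → k) :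
    eval (ext v (u ())) P = eval u (bind₁ (fun o : Option σ => o.elim (X ()) fun i => C (v i)) P) := by
  rw [← aeval_eq_eval u, aeval_bind₁]
  change _ = eval _ P
  congr 1
  congr 1
  funext o
  cases o with
  | none => simp [ext]
  | some i => simp [ext]

variable {A B E : G → k} {N : ℕ}

theorem exists_quot (hA : IsPol z A) (hB : IsPol z B) (hE : IsPol z E) (hN : N ≠ 0)
    (h : ∀ g, B g ^ N = E g * A g ^ N) {σ : Type} {W : (σ → k) → G} (hW : W ∈ Srf z σ) :
    ∃ C : MvPolynomial σ k, ∀ v, B (W v) = eval v C * A (W v) := by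
  obtain ⟨a, ha⟩ := hA.srf σ W hW
  obtain ⟨b, hb⟩ := hB.srf σ W hW
  obtain ⟨e, he⟩ := hE.srf σ W hW
  have h1 : b ^ N = e * a ^ N := by
    apply MvPolynomial.funext
    intro v
    rw [map_pow, map_mul, map_pow, ← ha, ← hb, ← he, h]
  obtain ⟨c, hc⟩ := dvd_of_pow hN h1
  exact ⟨c, fun v => by rw [hb, ha, hc, map_mul, mul_comm]⟩

theorem quot_unique (hA : IsPol z A) {σ : Type} {W : (σ → k) → G} (hW : W ∈ Srf z σ) {v0 : σ → k}
    (h0 : A (W v0) ≠ 0) {C C' : MvPolynomial σ k} (h : ∀ v, eval v C * A (W v) = eval v C' * A (W v)) : C = C' := by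
  obtain ⟨a, ha⟩ := hA.srf σ W hW
  have ha0 : a ≠ 0 := by
    rintro rfl
    apply h0
    rw [ha, map_zero]
  apply mul_right_cancel₀ ha0
  apply MvPolynomial.funext
  intro v
  rw [map_mul, map_mul, ← ha, h]

/-- `W` followed by a path -/
theorem join_mem {σ : Type} {W : (σ → k) → G} (hW : W ∈ Srf z σ) {V : (Unit → k) → G} (hV : V ∈ Srf z Unit) (g : G) :
    (fun w : Option σ → k => W (fun i => w (some i)) * g * V (fun _ => w none)) ∈ Srf z (Option σ) := by
  have h1 := comp_mem (σ := Option σ) hW (fun i => X (some i))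
  have h2 := comp_mem (σ := Option σ) hV (fun _ => X none)
  simp only [eval_X] at h1 h2
  exact Subgroup.mul_mem _ (Subgroup.mul_mem _ h1 (const_mem g)) h2

/-- **Root extraction.** -/
theorem IsPol.exists_root (hz : ∀ r, z r 0 = 1) (hgen : Subgroup.closure {g : G | ∃ r a, g = z r a} = ⊤)
    (hA : IsPol z A) (hB : IsPol z B) (hE : IsPol z E) (hA1 : A 1 ≠ 0) (hN : N ≠ 0)
    (h : ∀ g, B g ^ N = E g * A g ^ N) : ∃ c : G → k, IsPol z c ∧ ∀ g, B g = c g * A g := by
  choose V hV hV0 hV1 using exists_path (z := z) hz hgen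
  have hquot := fun g => exists_quot hA hB hE hN h (hV g)
  choose Q hQ using hquot
  set c : G → k := fun g => eval (fun _ => 0) (Q g) with hc
  -- the quotient on surfaces where `A` is not identically zero
  have key : ∀ (σ : Type) (W : (σ → k) → G), W ∈ Srf z σ → ∀ v0, A (W v0) ≠ 0 → ∀ C : MvPolynomial σ k,
      (∀ v, B (W v) = eval v C * A (W v)) → ∀ v, c (W v) = eval v C := by
    intro σ W hW v0 h0 C hC v
    set g := W v with hg
    have hW2 := join_mem hW (hV g) g⁻¹
    obtain ⟨C2, hC2⟩ := exists_quot hA hB hE hN h hW2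
    -- the parameter `0`
    have e1 : C = bind₁ (fun o : Option σ => o.elim (MvPolynomial.C 0) X) C2 := by
      apply quot_unique hA hW h0
      intro w
      rw [← hC, ← eval_ext]
      have h1 := hC2 (ext w 0)
      simp only [ext_some, ext_none, hV0] at h1
      have h2 : (fun i => w i : σ → k) = w := rfl
      rw [inv_mul_cancel_right] at h1
      exact h1
    -- the parameters `v`
    have e2 : Q g = bind₁ (fun o : Option σ => o.elim (X ()) fun i => MvPolynomial.C (v i)) C2 := by
      apply quot_unique hA (hV g) (v0 := fun _ => 1) (by rw [hV1]; exact hA1)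
      intro u
      rw [← hQ, ← eval_ext']
      have h1 := hC2 (ext v (u ()))
      simp only [ext_some, ext_none] at h1
      have h2 : W (fun i => v i) * g⁻¹ * V g (fun _ => u ()) = V g u := by
        change W v * g⁻¹ * V g u = V g u
        rw [← hg, mul_inv_cancel, one_mul]
      rw [h2] at h1
      exact h1
    show eval (fun _ => 0) (Q g) = eval v C
    rw [e1, e2, ← eval_ext, ← eval_ext']
  refine ⟨c, ⟨?_, ?_⟩, ?_⟩
  · intro σ W hW
    have hW3 := join_mem hW (hV (W 0)) (W 0)⁻¹
    obtain ⟨C3, hC3⟩ := exists_quot hA hB hE hN h hW3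
    have h1 := key _ _ hW3 (ext 0 1) (by
      have h2 : (fun i : σ => ext (0 : σ → k) 1 (some i)) = 0 := rfl
      simp only [h2, ext_none, hV1, mul_one, mul_inv_cancel]
      exact hA1) C3 hC3
    refine ⟨bind₁ (fun o : Option σ => o.elim (MvPolynomial.C 0) X) C3, fun v => ?_⟩
    rw [← eval_ext, ← h1]
    simp only [ext_some, ext_none, hV0, inv_mul_cancel_right]
  · obtain ⟨N', hN'⟩ := hB.bdd
    obtain ⟨N'', hN''⟩ := hA.bdd
    refine ⟨N', fun r g h' => ?_⟩
    -- parameters: `none` is `s`, `some ()` is the parameter of the path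
    set g0 := g * h' with hg0
    set W3 : (Option Unit → k) → G := fun w => g * z r (w none) * h' * g0⁻¹ * V g0 (fun _ => w (some ())) with hW3d
    have hW3 : W3 ∈ Srf z (Option Unit) := by
      have h1 := z_mem (z := z) r (X none : MvPolynomial (Option Unit) k)
      have h2 := comp_mem (σ := Option Unit) (hV g0) (fun _ => X (some ()))
      simp only [eval_X] at h1 h2
      exact Subgroup.mul_mem _ (Subgroup.mul_mem _ (Subgroup.mul_mem _ (Subgroup.mul_mem _ (const_mem g) h1)
        (const_mem h')) (const_mem g0⁻¹)) h2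
    obtain ⟨C3, hC3⟩ := exists_quot hA hB hE hN h hW3
    have hval : A (W3 (fun o => o.elim 0 fun _ => 1)) ≠ 0 := by
      have h2 : W3 (fun o => o.elim 0 fun _ => 1) = 1 := by
        show g * z r 0 * h' * g0⁻¹ * V g0 (fun _ => 1) = 1
        rw [hz, hV1, mul_one, mul_one, hg0, mul_inv_cancel]
      rw [h2]
      exact hA1
    have h1 := key _ _ hW3 (fun o => o.elim 0 fun _ => 1) hval C3 hC3
    -- as a polynomial in `s`
    set P3 : Polynomial (MvPolynomial Unit k) := optionEquivLeft k Unit C3 with hP3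
    have hev : ∀ (u : Unit → k) (s : k), (P3.map (eval u)).eval s = eval (fun o => o.elim s u) C3 := by
      intro u s
      rw [optionEquivLeft_elim_eval]
    -- a polynomial in the parameter of the path which detects that `A` is not identically zero
    have hWu : (fun u : Unit → k => W3 (fun o => o.elim 0 u)) ∈ Srf z Unit := by
      have h2 := comp_mem (σ := Unit) hW3 (fun o => o.elim (MvPolynomial.C 0) X)
      have e : (fun u : Unit → k => W3 (fun j => eval u (Option.elim j (MvPolynomial.C 0) X))) =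
          fun u : Unit → k => W3 (fun o => o.elim 0 u) := by
        funext u
        have e0 : (fun j : Option Unit => eval u (Option.elim j (MvPolynomial.C 0) X)) = fun o => o.elim 0 u := by
          funext o
          cases o <;> simp
        exact congrArg W3 e0
      rw [e] at h2
      exact h2
    obtain ⟨q, hq⟩ := hA.srf _ _ hWu
    have hq0 : q ≠ 0 := by
      rintro rfl
      apply hval
      rw [hq (fun _ => 1), map_zero]
    have hcoef : ∀ m, N' < m → P3.coeff m = 0 := by
      intro m hm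
      apply mul_right_cancel₀ hq0
      rw [zero_mul]
      apply MvPolynomial.funext
      intro u
      rw [map_mul, map_zero]
      by_cases hqu : eval u q = 0
      · rw [hqu, mul_zero]
      · have h2 : (P3.map (eval u)).natDegree ≤ N' := by
          obtain ⟨PB, hPB, hPB2⟩ := hN' r g (h' * g0⁻¹ * V g0 u)
          obtain ⟨PA, hPA, hPA2⟩ := hN'' r g (h' * g0⁻¹ * V g0 u)
          have e1 : ∀ s, W3 (fun o => o.elim s u) = g * z r s * (h' * g0⁻¹ * V g0 u) := by
            intro s
            show g * z r s * h' * g0⁻¹ * V g0 u = _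
            group
          have hPA0 : PA ≠ 0 := by
            rintro rfl
            apply hqu
            rw [← hq, e1, hPA2, Polynomial.eval_zero]
          have e2 : PB = P3.map (eval u) * PA := by
            apply Polynomial.funext
            intro s
            rw [Polynomial.eval_mul, hev, ← hPB2, ← hPA2, ← e1]
            exact hC3 (fun o => o.elim s u)
          by_cases h0 : P3.map (eval u) = 0
          · rw [h0, Polynomial.natDegree_zero]; omega
          · have h3 := Polynomial.natDegree_mul h0 hPA0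
            rw [← e2] at h3
            omega
        have h3 : (P3.map (eval u)).coeff m = 0 := Polynomial.coeff_eq_zero_of_natDegree_lt (by omega)
        rw [Polynomial.coeff_map] at h3
        rw [h3, zero_mul]
    refine ⟨P3.map (eval fun _ => 0), ?_, ?_⟩
    · refine (Polynomial.natDegree_map_le).trans ?_
      rw [Polynomial.natDegree_le_iff_coeff_eq_zero]
      exact hcoef
    · intro s
      rw [hev, ← h1]
      congr 1
      show _ = g * z r s * h' * g0⁻¹ * V g0 (fun _ => 0)
      rw [hV0, inv_mul_cancel_right]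
  · intro g
    have h1 := hQ g (fun _ => 0)
    rw [hV0] at h1
    exact h1

end root

end Cfsg.Agent.H564.U
end

-- part: H564/U/Laur
section
/-!
# Polynomial functions along products of root elements with parameters `c s`, `c / s` (helper564)
-/

set_option autoImplicit false
set_option linter.unusedSectionVars false

namespace Cfsg.Agent.H564.U

open Polynomial Finset

variable {R G k : Type*} [Field k] [Group G]

/-- `c s` or `c / s` -/
def par (a : k × Bool) (s : kˣ) : k := if a.2 then a.1 * (s : k) else a.1 * ((s⁻¹ : kˣ) : k)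

theorem exists_par {N : ℕ} {Q : k[X]} (hQ : Q.natDegree ≤ N) (a : k × Bool) :
    ∃ P : k[X], P.natDegree ≤ 2 * N ∧ ∀ s : kˣ, (s : k) ^ N * Q.eval (par a s) = P.eval (s : k) := by
  have hev : ∀ x : k, Q.eval x = ∑ m ∈ range (N + 1), Q.coeff m * x ^ m := fun x =>
    Polynomial.eval_eq_sum_range' (by omega) x
  by_cases ha : a.2 = true
  · refine ⟨∑ m ∈ range (N + 1), C (Q.coeff m * a.1 ^ m) * X ^ (N + m), ?_, fun s => ?_⟩
    · refine Polynomial.natDegree_sum_le_of_forall_le _ _ fun m hm => ?_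
      refine (Polynomial.natDegree_C_mul_le _ _).trans ?_
      rw [Polynomial.natDegree_X_pow]
      have := mem_range.1 hm
      omega
    · rw [hev, mul_sum, Polynomial.eval_finsetSum]
      refine sum_congr rfl fun m _ => ?_
      rw [eval_mul, eval_C, eval_pow, eval_X]
      unfold par
      rw [if_pos ha, mul_pow, pow_add]
      ring
  · refine ⟨∑ m ∈ range (N + 1), C (Q.coeff m * a.1 ^ m) * X ^ (N - m), ?_, fun s => ?_⟩
    · refine Polynomial.natDegree_sum_le_of_forall_le _ _ fun m hm => ?_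
      refine (Polynomial.natDegree_C_mul_le _ _).trans ?_
      rw [Polynomial.natDegree_X_pow]
      omega
    · rw [hev, mul_sum, Polynomial.eval_finsetSum]
      refine sum_congr rfl fun m hm => ?_
      rw [eval_mul, eval_C, eval_pow, eval_X]
      unfold par
      rw [if_neg ha, mul_pow]
      have h1 : m ≤ N := by have := mem_range.1 hm; omega
      have h2 : (s : k) ^ N * ((s⁻¹ : kˣ) : k) ^ m = (s : k) ^ (N - m) := by
        have h3 : (s : k) ^ N = (s : k) ^ (N - m) * (s : k) ^ m := by rw [← pow_add, Nat.sub_add_cancel h1]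
        rw [h3, mul_assoc, ← mul_pow, Units.mul_inv, one_pow, mul_one]
      rw [← h2]
      ring

/-- a constant, or `z r (c s)`, or `z r (c / s)` -/
def ev (z : R → k → G) (s : kˣ) : G ⊕ (R × k × Bool) → G :=
  Sum.elim id fun a => z a.1 (par a.2 s)

/-- **Laurent polynomials along products** -/
theorem exists_laurent [Infinite k] {z : R → k → G} {f : G → k} {N : ℕ}
    (hN : ∀ r g h, ∃ P : k[X], P.natDegree ≤ N ∧ ∀ s, f (g * z r s * h) = P.eval s) (L : List (G ⊕ (R × k × Bool))) :
    ∀ g h, ∃ P : k[X], P.natDegree ≤ 2 * N * L.length ∧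
      ∀ s : kˣ, (s : k) ^ (N * L.length) * f (g * (L.map (ev z s)).prod * h) = P.eval (s : k) := by
  classical
  induction L with
  | nil => exact fun g h => ⟨C (f (g * h)), by simp, fun s => by simp⟩
  | cons a L ih =>
    intro g h
    rcases a with b | a
    · obtain ⟨P, hP, hP2⟩ := ih (g * b) h
      refine ⟨X ^ N * P, ?_, fun s => ?_⟩
      · refine Polynomial.natDegree_mul_le.trans ?_
        rw [Polynomial.natDegree_X_pow, List.length_cons]
        linarith only [hP]
      · rw [eval_mul, eval_pow, eval_X, ← hP2, List.length_cons, Nat.mul_succ, pow_add, List.map_cons, List.prod_cons,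
          ← mul_assoc g]
        have : ev z s (Sum.inl b) = b := rfl
        rw [this]
        ring
    obtain ⟨nd, hnd⟩ : ∃ nd : Finset k, nd.card = N + 1 := Infinite.exists_subset_card_eq k (N + 1)
    choose P hP hP2 using fun x : k => ih (g * z a.1 x) h
    have hb : ∀ x ∈ nd, (Lagrange.basis nd id x).natDegree ≤ N := by
      intro x hx
      rw [Lagrange.natDegree_basis Function.injective_id.injOn hx, hnd]
      omega
    choose! Q hQ hQ2 using fun x (hx : x ∈ nd) => exists_par (hb x hx) a.2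
    refine ⟨∑ x ∈ nd, Q x * P x, ?_, fun s => ?_⟩
    · refine Polynomial.natDegree_sum_le_of_forall_le _ _ fun x hx => ?_
      refine Polynomial.natDegree_mul_le.trans ?_
      have h1 := hQ x hx
      have h2 := hP x
      rw [List.length_cons]
      linarith only [h1, h2]
    · set w := (L.map (ev z s)).prod with hw
      obtain ⟨R', hR', hR2⟩ := hN a.1 g (w * h)
      have h3 : R' = Lagrange.interpolate nd id fun x => R'.eval (id x) := by
        apply Lagrange.eq_interpolate Function.injective_id.injOn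
        refine lt_of_le_of_lt Polynomial.degree_le_natDegree ?_
        rw [hnd]
        exact_mod_cast Nat.lt_succ_of_le hR'
      have h4 : f (g * z a.1 (par a.2 s) * (w * h)) = ∑ x ∈ nd, f (g * z a.1 x * w * h) *
          (Lagrange.basis nd id x).eval (par a.2 s) := by
        rw [hR2]
        conv_lhs => rw [h3]
        rw [Lagrange.interpolate_apply, Polynomial.eval_finsetSum]
        refine sum_congr rfl fun x _ => ?_
        rw [eval_mul, eval_C, id, ← hR2, mul_assoc _ w h]
      have h5 : g * (List.map (ev z s) (Sum.inr a :: L)).prod * h = g * z a.1 (par a.2 s) * (w * h) := by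
        rw [List.map_cons, List.prod_cons, ← hw]
        have : ev z s (Sum.inr a) = z a.1 (par a.2 s) := rfl
        rw [this]
        group
      rw [h5, h4, Polynomial.eval_finsetSum, mul_sum]
      refine sum_congr rfl fun x hx => ?_
      rw [eval_mul, ← hQ2 x hx, ← hP2, ← hw, List.length_cons, Nat.mul_succ, pow_add]
      ring

/-- `lam` is a product of constants and root elements `z r (c s)`, `z r (c / s)` -/
def Alg (z : R → k → G) (lam : kˣ → G) : Prop := ∃ L : List (G ⊕ (R × k × Bool)), ∀ s, lam s = (L.map (ev z s)).prod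

namespace Alg

variable {z : R → k → G} {f g : kˣ → G}

theorem const (a : G) : Alg z (fun _ => a) := ⟨[Sum.inl a], fun s => by simp [ev]⟩

theorem up (r : R) (c : k) : Alg z (fun s : kˣ => z r (c * (s : k))) :=
  ⟨[Sum.inr (r, c, true)], fun s => by simp [ev, par]⟩

theorem dn (r : R) (c : k) : Alg z (fun s : kˣ => z r (c * ((s⁻¹ : kˣ) : k))) :=
  ⟨[Sum.inr (r, c, false)], fun s => by simp [ev, par]⟩

theorem mul (h : Alg z f) (h' : Alg z g) : Alg z (fun s => f s * g s) := by
  obtain ⟨L, hL⟩ := h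
  obtain ⟨L', hL'⟩ := h'
  exact ⟨L ++ L', fun s => by
    show f s * g s = _
    rw [List.map_append, List.prod_append, hL, hL']⟩

theorem pow (h : Alg z f) (n : ℕ) : Alg z (fun s => f s ^ n) := by
  induction n with
  | zero => simpa using const (z := z) (1 : G)
  | succ n ih => simpa only [pow_succ] using ih.mul h

theorem listProd {α : Type*} (l : List α) {F : α → kˣ → G} (h : ∀ a ∈ l, Alg z (F a)) :
    Alg z (fun s => (l.map fun a => F a s).prod) := by
  induction l with
  | nil => simpa using const (z := z) (1 : G)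
  | cons a l ih =>
    simp only [List.map_cons, List.prod_cons]
    exact (h a List.mem_cons_self).mul (ih fun b hb => h b (List.mem_cons_of_mem _ hb))

theorem inv (hz : ∀ r a, (z r a)⁻¹ = z r (-a)) (h : Alg z f) : Alg z (fun s => (f s)⁻¹) := by
  obtain ⟨L, hL⟩ := h
  refine ⟨(L.map (Sum.map (fun g => g⁻¹) fun a => (a.1, -a.2.1, a.2.2))).reverse, fun s => ?_⟩
  show (f s)⁻¹ = _
  rw [hL, List.prod_inv_reverse, List.map_reverse, List.map_map, List.map_map]
  congr 2
  apply List.map_congr_left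
  rintro (b | a) -
  · rfl
  · show (z a.1 (par a.2 s))⁻¹ = z a.1 (par (-a.2.1, a.2.2) s)
    rw [hz]
    congr 1
    unfold par
    split_ifs <;> ring

theorem zpow (hz : ∀ r a, (z r a)⁻¹ = z r (-a)) (h : Alg z f) (n : ℤ) : Alg z (fun s => f s ^ n) := by
  obtain ⟨m, rfl | rfl⟩ := Int.eq_nat_or_neg n
  · simpa only [zpow_natCast] using h.pow m
  · simpa only [zpow_neg, zpow_natCast] using (h.pow m).inv hz

/-- polynomial functions are Laurent polynomials along algebraic curves, with uniform degrees -/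
theorem laurent [Infinite k] (h : Alg z g) {f : G → k} (hf : IsPol z f) :
    ∃ N M : ℕ, ∀ a b, ∃ P : k[X], P.natDegree ≤ N ∧ ∀ s : kˣ, (s : k) ^ M * f (a * g s * b) = P.eval (s : k) := by
  obtain ⟨L, hL⟩ := h
  obtain ⟨N, hN⟩ := hf.bdd
  refine ⟨2 * N * L.length, N * L.length, fun a b => ?_⟩
  obtain ⟨P, hP, hP2⟩ := exists_laurent hN L a b
  exact ⟨P, hP, fun s => by rw [hL]; exact hP2 s⟩

end Alg

end Cfsg.Agent.H564.U
end

-- part: H564/U/Def
section
/-!
# Theorem (U) for the exceptional groups, definitions (helper564)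

`D` a tabulated datum of type `hp : IsType D l M`, `k` a field, `G = D.group k` (adjoint matrices).

* `ent D g r s`, `mnr D X g` : entries and minors with root vector rows and columns;
* `Vtx D k Xs` : the vertex condition for the minors in `Xs`;
* `xsG2`, `xsF4`, `xsE8` : the lists of minors used for the three types;
* `zz hp r a` : the root element `x_r(a)`, `r` any root number; polynomial functions are `IsPol (zz hp)` (`H564/U/Pol`).
-/

set_option autoImplicit false
set_option linter.unusedSectionVars false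

namespace Cfsg.Agent.H564.U

open Cfsg Cfsg.Lie Cfsg.Lie.ChevalleyDatum Polynomial
open Cfsg.Agent.ChevalleyStructure.Elts Cfsg.Agent.Nodes.RGDChev Cfsg.Agent.KFacts.RgdChevCoord
  Cfsg.Agent.H129.TorusChar Cfsg.Agent.Tits.Roots Cfsg.Agent.ChevalleyStructure.CoxeterGeom
  Cfsg.Agent.ChevalleyStructure.CoxeterGeomTypes

universe u

/-! ### minors -/

section minors

variable (D : ChevalleyDatum) {k : Type u} [Field k]

/-- the entry of `g` in row `e_r` and column `e_s` (0 out of range) -/
def ent (g : ↥(D.group k)) (r s : ℕ) : k :=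
  if h : r < D.nroots ∧ s < D.nroots then
    ((g : GL D.Idx k) : Matrix D.Idx D.Idx k) (Sum.inr ⟨r, h.1⟩) (Sum.inr ⟨s, h.2⟩)
  else 0

/-- the minor of `g` with rows and columns `e_r`, `r ∈ X` -/
noncomputable def mnr (X : List ℕ) (g : ↥(D.group k)) : k :=
  Matrix.det (Matrix.of fun a b : Fin X.length => ent D g (X.get a) (X.get b))

/-- `G2`: weights `ω₂, 3ω₁, 4ω₁` -/
def xsG2 : List (List ℕ) := [[11], [11, 10], [11, 10, 9]]

/-- `F4` (library labels: `p₁, p₂` short, `p₃, p₄` long): weights `ω₄, ω₃, 2ω₂, ω₁ + 2ω₂, 3ω₂` -/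
def xsF4 : List (List ℕ) := [[47], [47, 46], [47, 46, 45], [47, 46, 45, 44], [47, 46, 45, 44, 40]]

/-- `E8`: weights `ω₈, ω₇, ω₆, ω₅, ω₄, ω₂ + ω₃, 2ω₃, ω₁ + 2ω₂, 3ω₂` -/
def xsE8 : List (List ℕ) := [[239], [239, 238], [239, 238, 237], [239, 238, 237, 236], [239, 238, 237, 236, 235],
  [239, 238, 237, 236, 235, 234], [239, 238, 237, 236, 235, 234, 232], [239, 238, 237, 236, 235, 234, 233],
  [239, 238, 237, 236, 235, 234, 233, 225]]

end minors

/-! ### the one-parameter subgroups of `D.group k` -/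

section zz

variable {D : ChevalleyDatum} {l : ℕ} {M : CoxeterMatrix (Fin l)} (hp : IsType D l M) {k : Type u} [Field k]

/-- the one-parameter subgroups of `D.group k`, all root numbers (positive and negative); polynomial functions on
`D.group k` are `IsPol (zz hp)`, see `H564/U/Pol.lean` -/
def zz (r : ℕ) (a : k) : ↥(D.group k) := ⟨xG hp.inList r a, xG_mem_group hp.inList _ a⟩

theorem zz_zero (r : ℕ) : zz hp r (0 : k) = 1 := Subtype.ext (xG_zero hp.inList r)

theorem zz_inv (r : ℕ) (a : k) : (zz hp r a)⁻¹ = zz hp r (-a) := Subtype.ext (xG_inv hp.inList r a)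

theorem zz_gen : Subgroup.closure {g : ↥(D.group k) | ∃ r a, g = zz hp r a} = ⊤ := by
  rw [eq_top_iff]
  rintro ⟨g, hg⟩ -
  have key : ∀ g ∈ D.group k, ∀ hg : g ∈ D.group k,
      (⟨g, hg⟩ : ↥(D.group k)) ∈ Subgroup.closure {g : ↥(D.group k) | ∃ r a, g = zz hp r a} := by
    intro g hg
    unfold ChevalleyDatum.group at hg
    induction hg using Subgroup.closure_induction with
    | mem g hg =>
      obtain ⟨r, t, h⟩ := hg
      intro hg'
      refine Subgroup.subset_closure ⟨r, t, Subtype.ext (Units.ext ?_)⟩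
      show (g : Matrix D.Idx D.Idx k) = D.x k r t
      rw [h, x_of_lt r.2]
    | one => intro _; exact Subgroup.one_mem _
    | mul a b ha hb h1 h2 =>
      intro _
      exact (Subgroup.mul_mem _ (h1 ha) (h2 hb) :)
    | inv a ha h1 => intro _; exact Subgroup.inv_mem _ (h1 ha)
  exact key g hg hg

/-- the coroot elements are algebraic -/
theorem alg_hc (i : Fin l) : Alg (zz hp (k := k)) (fun s : kˣ => hc hp i (s : k)) := by
  have e : (fun s : kˣ => hc hp i (s : k)) = fun s : kˣ => zz hp (D.simple i) (1 * (s : k)) *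
      zz hp (D.neg (D.simple i)) (-1 * ((s⁻¹ : kˣ) : k)) * zz hp (D.simple i) (1 * (s : k)) *
      (zz hp (D.simple i) (-1) * zz hp (D.neg (D.simple i)) 1 * zz hp (D.simple i) (-1)) := by
    funext s
    apply Subtype.ext
    show hG hp.inList (D.simple i) (s : k) = xG hp.inList (D.simple i) (1 * (s : k)) *
      xG hp.inList (D.neg (D.simple i)) (-1 * ((s⁻¹ : kˣ) : k)) * xG hp.inList (D.simple i) (1 * (s : k)) *
      (xG hp.inList (D.simple i) (-1) * xG hp.inList (D.neg (D.simple i)) 1 * xG hp.inList (D.simple i) (-1))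
    rw [hG_def, nG_def, nG_def]
    simp only [one_mul, neg_mul, Units.val_inv_eq_inv_val, inv_neg, inv_one, neg_neg, mul_assoc]
  rw [e]
  exact (((Alg.up (z := zz hp) _ _).mul (Alg.dn (z := zz hp) _ _)).mul (Alg.up (z := zz hp) _ _)).mul
    (Alg.const (z := zz hp) _)

/-- **the vertex condition** for the minors in `Xs`, along an algebraic curve `lam` -/
def VtxA (hp : IsType D l M) (k : Type u) [Field k] (Xs : List (List ℕ)) : Prop :=
  ∃ (h g : ↥(D.group k)) (lam : kˣ → ↥(D.group k)), (∀ s, lam s ∈ TT D k) ∧ Alg (zz hp) lam ∧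
    ∀ X ∈ Xs, ∃ c : k, c ≠ 0 ∧ ∀ t ∈ TT D k, ∃ P : k[X], P.eval 0 = c ∧
      ∀ s : kˣ, mnr D X (h * t * lam s * g) = P.eval (s : k)

end zz

end Cfsg.Agent.H564.U
end

private theorem dce_4aa1ef8163f3 : _root_.True := by
  try have : _root_.True := by simp only [_root_.Cfsg.Agent.H564.U.ev.eq_1]
  try have : _root_.True := by simp only [_root_.Cfsg.Agent.H564.U.ext.eq_1]
  try have : _root_.True := by simp only [_root_.Cfsg.Agent.H564.U.par.eq_1]
  exact _root_.True.intro
end

-- part: H45/UniE/Def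
section
prune_inst 0x20206c047122000000000012c00020604a0001000000000168200d0000894220a9422861b2a0140000320444283d004811000010422000000a000800011801800028100201000000200000000004000000000000000000000000000000000000000000000
set_option linter.all false
open scoped Cfsg.Agent.FastGrp

/-!
# Theorem (U) for arbitrary split groups: interface

* `GDat ι Φ k G` : the group data (simple root elements `x i`, `y i`, positive root elements `z b`, torus, coroots,
  an anti-automorphism `τ`);
* `FDat ι Φ k G` : group data with fundamental functions `Δ i`;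
* `SDat F ι Φ S` : a finite group with root elements, `SDat.IsWt` : weight vectors, `SDat.Wt`, `SDat.Neg`, the statements
  on the finite group which come from its root group datum.
-/

set_option autoImplicit false
set_option linter.unusedSectionVars false

namespace Cfsg.Agent.H45.UniE

open Polynomial Finset

/-- group data -/
structure GDat (ι Φ k G : Type*) [Field k] [Group G] where
  /-- simple root elements -/
  x : ι → k → G
  /-- negative simple root elements -/
  y : ι → k → G
  /-- all positive root elements -/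
  z : Φ → k → G
  zi : ι → Φ
  /-- a positive degree for every positive root -/
  ht : Φ → ℕ
  T : Subgroup G
  δ : kˣ → G
  hh : ι → kˣ → G
  /-- anti-automorphism -/
  τ : G → G
  ht_pos : ∀ b, 0 < ht b
  x_eq : ∀ i s, x i s = z (zi i) s
  z_add : ∀ b s t, z b (s + t) = z b s * z b t
  y_add : ∀ i s t, y i (s + t) = y i s * y i t
  δ_mul : ∀ s t, δ (s * t) = δ s * δ t
  δ_mem : ∀ s, δ s ∈ T
  hh_mem : ∀ i c, hh i c ∈ T
  δ_z : ∀ s b a, δ s * z b a = z b ((s : k) ^ ht b * a) * δ s
  T_x : ∀ t ∈ T, ∀ i, ∃ u : k, ∀ a, x i a * t = t * x i (u * a)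
  T_y : ∀ t ∈ T, ∀ i, ∃ u : k, ∀ a, t * y i a = y i (u * a) * t
  comm : ∀ i j a s, i ≠ j → x i a * y j s = y j s * x i a
  rank : ∀ i a s (c : kˣ), (c : k) = 1 + a * s → x i a * y i s = y i (s / c) * hh i c * x i (a / c)
  gen : Subgroup.closure {g | ∃ i s, g = x i s ∨ g = y i s} = ⊤
  /-- commutator formula -/
  cmt : ∀ i b s, ∃ l : List (Φ × k × ℕ), (∀ a ∈ l, 0 < a.2.2) ∧
    ∀ t, x i (-s) * z b t * x i s = (l.map fun a => z a.1 (a.2.1 * t ^ a.2.2)).prod
  τ_mul : ∀ a b, τ (a * b) = τ b * τ a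
  τ_τ : ∀ a, τ (τ a) = a
  τ_x : ∀ i s, τ (x i s) = y i s
  τ_T : ∀ t ∈ T, τ t = t

/-- group data with fundamental functions -/
structure FDat (ι Φ k G : Type*) [Field k] [Group G] [DecidableEq ι] extends GDat ι Φ k G where
  Δ : ι → G → k
  wt : ι → ℤ
  N : ℕ
  M : ℕ
  Δ_one : ∀ i, Δ i 1 = 1
  Δ_z : ∀ i b g s, Δ i (g * z b s) = Δ i g
  Δ_T : ∀ i, ∀ t ∈ T, ∀ g, Δ i (g * t) = Δ i t * Δ i g
  Δ_hh : ∀ i j (c : kˣ), Δ i (hh j c) = if i = j then (c : k) else 1
  Δ_δ : ∀ i (s : kˣ), Δ i (δ s) = ((s ^ wt i : kˣ) : k)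
  Δ_τ : ∀ i g, Δ i (τ g) = Δ i g
  pol_z : ∀ i b g h, ∃ P : k[X], P.natDegree ≤ N ∧ ∀ s, Δ i (g * z b s * h) = P.eval s
  pol_δ : ∀ i g h, ∃ P : k[X], P.natDegree ≤ N ∧ ∀ s : kˣ, (s : k) ^ M * Δ i (g * δ s * h) = P.eval (s : k)

/-- root elements of a finite group -/
structure SDat (F ι Φ S : Type*) [Field F] [Group S] where
  x : ι → F → S
  y : ι → F → S
  /-- all positive root elements -/
  z : Φ → F → S
  /-- all negative root elements -/
  w : Φ → F → S
  hh : ι → Fˣ → S
  gen : Subgroup.closure {g | ∃ i s, g = x i s ∨ g = y i s} = ⊤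

namespace SDat

variable {F ι Φ S : Type*} [Field F] [Group S] (E : SDat F ι Φ S)

/-- `U⁻`, generated by all negative root elements -/
def Um : Subgroup S := Subgroup.closure {g | ∃ b s, g = E.w b s}
/-- `U⁺`, generated by all positive root elements -/
def Up : Subgroup S := Subgroup.closure {g | ∃ b s, g = E.z b s}

/-- the base change map is compatible with the root elements -/
structure Bc {k G : Type*} [Field k] [Algebra F k] [Group G] (D : GDat ι Φ k G) (bc : S →* G) : Prop where
  x : ∀ i s, bc (E.x i s) = D.x i (algebraMap F k s)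
  y : ∀ i s, bc (E.y i s) = D.y i (algebraMap F k s)
  z : ∀ b s, bc (E.z b s) = D.z b (algebraMap F k s)
  w : ∀ b s, ∃ s', bc (E.w b s) = D.τ (D.z b s')
  hh : ∀ i b, bc (E.hh i b) = D.hh i (Units.map (algebraMap F k).toMonoidHom b)

variable [Fintype F] {k W : Type*} [Field k] [Algebra F k] [AddCommGroup W] [Module k W]

/-- `v` is a weight vector with highest weight data `a` -/
structure IsWt (ρ : S →* Module.End k W) (a : ι → ℕ) (v : W) : Prop where
  fix : ∀ i s, ρ (E.x i s) v = v
  tor : ∀ i b, ρ (E.hh i b) v = algebraMap F k (b : F) ^ a i • v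
  nn : ∀ i, ρ (E.x i (-1) * E.y i 1) v =
    - ∑ t : F, algebraMap F k t ^ (Fintype.card F - 1 - a i) • ρ (E.y i t) v

variable (k W) in
/-- (A1) simple modules of the finite group have weight vectors -/
def Wt : Prop := ∀ (ρ : S →* Module.End k W), FiniteDimensional k W → Nontrivial W →
    (∀ N : Submodule k W, (∀ g, ∀ v ∈ N, ρ g v ∈ N) → N = ⊥ ∨ N = ⊤) →
    ∃ (v : W) (a : ι → ℕ), v ≠ 0 ∧ (∀ i, a i < Fintype.card F) ∧ E.IsWt ρ a v

variable (k W) in
/-- (A2) -/
def Neg : Prop := ∀ (ρ : S →* Module.End k W) (w : W), (∀ i (s : F), ρ (E.x i s) w = w) →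
    (∀ i (b : Fˣ), ∃ c : k, ρ (E.hh i b) w = c • w) →
    (∀ i, ρ (E.x i (-1) * E.y i 1) w ∈ Submodule.span k (Set.range fun t : F => ρ (E.y i t) w)) →
    ∀ g, ρ g w ∈ Submodule.span k {x | ∃ u ∈ E.Um, x = ρ u w}

end SDat

/-! ### density of the big cell -/

namespace GDat

variable {ι Φ k G : Type*} [Field k] [Group G] (D : GDat ι Φ k G)

/-- `U⁺`, generated by all positive root elements -/
def U : Subgroup G := Subgroup.closure {g | ∃ b s, g = D.z b s}
/-- `U⁻` -/
def Um : Subgroup G := Subgroup.closure {g | ∃ b s, g = D.τ (D.z b s)}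

/-- the group generated by the simple root elements -/
def U0 : Subgroup G := Subgroup.closure {g | ∃ i s, g = D.x i s}
/-- the group generated by the negative simple root elements -/
def Um0 : Subgroup G := Subgroup.closure {g | ∃ i s, g = D.y i s}

theorem x_mem_U0 (i : ι) (s : k) : D.x i s ∈ D.U0 := Subgroup.subset_closure ⟨i, s, rfl⟩
theorem y_mem_Um0 (i : ι) (s : k) : D.y i s ∈ D.Um0 := Subgroup.subset_closure ⟨i, s, rfl⟩
theorem z_mem_U (b : Φ) (s : k) : D.z b s ∈ D.U := Subgroup.subset_closure ⟨b, s, rfl⟩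
theorem τz_mem_Um (b : Φ) (s : k) : D.τ (D.z b s) ∈ D.Um := Subgroup.subset_closure ⟨b, s, rfl⟩
theorem x_mem_U (i : ι) (s : k) : D.x i s ∈ D.U := by rw [D.x_eq]; exact D.z_mem_U _ _
theorem y_mem_Um (i : ι) (s : k) : D.y i s ∈ D.Um := by rw [← D.τ_x, D.x_eq]; exact D.τz_mem_Um _ _

theorem U0_le : D.U0 ≤ D.U := by
  rw [U0, Subgroup.closure_le]
  rintro _ ⟨i, s, rfl⟩
  exact D.x_mem_U i s

theorem Um0_le : D.Um0 ≤ D.Um := by
  rw [Um0, Subgroup.closure_le]
  rintro _ ⟨i, s, rfl⟩
  exact D.y_mem_Um i s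

theorem z_zero (b : Φ) : D.z b 0 = 1 := by
  have h := D.z_add b 0 0
  rw [add_zero] at h
  exact (mul_eq_left.1 h.symm)

theorem z_neg (b : Φ) (s : k) : D.z b (-s) = (D.z b s)⁻¹ := by
  rw [eq_inv_iff_mul_eq_one, ← D.z_add, neg_add_cancel, z_zero]

theorem x_add (i : ι) (s t : k) : D.x i (s + t) = D.x i s * D.x i t := by
  rw [D.x_eq, D.x_eq, D.x_eq, D.z_add]

theorem x_zero (i : ι) : D.x i 0 = 1 := by rw [D.x_eq, z_zero]

theorem x_neg (i : ι) (s : k) : D.x i (-s) = (D.x i s)⁻¹ := by rw [D.x_eq, D.x_eq, z_neg]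

theorem y_zero (i : ι) : D.y i 0 = 1 := by
  have h := D.y_add i 0 0
  rw [add_zero] at h
  exact (mul_eq_left.1 h.symm)

theorem y_neg (i : ι) (s : k) : D.y i (-s) = (D.y i s)⁻¹ := by
  rw [eq_inv_iff_mul_eq_one, ← D.y_add, neg_add_cancel, y_zero]

theorem τ_y (i : ι) (s : k) : D.τ (D.y i s) = D.x i s := by rw [← D.τ_x, D.τ_τ]

theorem τ_one : D.τ 1 = 1 := by
  have h := D.τ_mul 1 1
  rw [mul_one] at h
  exact (mul_eq_left.1 h.symm)

theorem τ_inv (g : G) : D.τ g⁻¹ = (D.τ g)⁻¹ := by
  rw [eq_inv_iff_mul_eq_one, ← D.τ_mul, mul_inv_cancel, D.τ_one]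

theorem τ_U {u : G} (hu : u ∈ D.U) : D.τ u ∈ D.Um := by
  induction hu using Subgroup.closure_induction with
  | mem u hu => obtain ⟨b, s, rfl⟩ := hu; exact D.τz_mem_Um b s
  | one => rw [D.τ_one]; exact D.Um.one_mem
  | mul a b _ _ h1 h2 => rw [D.τ_mul]; exact D.Um.mul_mem h2 h1
  | inv a _ h1 => rw [D.τ_inv]; exact D.Um.inv_mem h1

theorem τ_Um {u : G} (hu : u ∈ D.Um) : D.τ u ∈ D.U := by
  induction hu using Subgroup.closure_induction with
  | mem u hu => obtain ⟨b, s, rfl⟩ := hu; rw [D.τ_τ]; exact D.z_mem_U b s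
  | one => rw [D.τ_one]; exact D.U.one_mem
  | mul a b _ _ h1 h2 => rw [D.τ_mul]; exact D.U.mul_mem h2 h1
  | inv a _ h1 => rw [D.τ_inv]; exact D.U.inv_mem h1

theorem T_Um0 {t : G} (ht : t ∈ D.T) {v : G} (hv : v ∈ D.Um0) : ∃ v' ∈ D.Um0, t * v = v' * t := by
  have key : ∀ v ∈ D.Um0, t * v * t⁻¹ ∈ D.Um0 := by
    intro v hv
    induction hv using Subgroup.closure_induction with
    | mem v hv =>
      obtain ⟨i, s, rfl⟩ := hv
      obtain ⟨u, hu⟩ := D.T_y t ht i
      rw [hu, mul_inv_cancel_right]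
      exact D.y_mem_Um0 _ _
    | one => rw [mul_one, mul_inv_cancel]; exact D.Um0.one_mem
    | mul a b _ _ h1 h2 =>
      have : t * (a * b) * t⁻¹ = t * a * t⁻¹ * (t * b * t⁻¹) := by group
      rw [this]; exact D.Um0.mul_mem h1 h2
    | inv a _ h1 =>
      have : t * a⁻¹ * t⁻¹ = (t * a * t⁻¹)⁻¹ := by group
      rw [this]; exact D.Um0.inv_mem h1
  exact ⟨_, key v hv, by group⟩

theorem τ_Um0 {u : G} (hu : u ∈ D.Um0) : D.τ u ∈ D.U0 := by
  induction hu using Subgroup.closure_induction with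
  | mem u hu => obtain ⟨i, s, rfl⟩ := hu; rw [D.τ_y]; exact D.x_mem_U0 i s
  | one => rw [D.τ_one]; exact D.U0.one_mem
  | mul a b _ _ h1 h2 => rw [D.τ_mul]; exact D.U0.mul_mem h2 h1
  | inv a _ h1 => rw [D.τ_inv]; exact D.U0.inv_mem h1

theorem τ_U0 {u : G} (hu : u ∈ D.U0) : D.τ u ∈ D.Um0 := by
  induction hu using Subgroup.closure_induction with
  | mem u hu => obtain ⟨i, s, rfl⟩ := hu; rw [D.τ_x]; exact D.y_mem_Um0 i s
  | one => rw [D.τ_one]; exact D.Um0.one_mem
  | mul a b _ _ h1 h2 => rw [D.τ_mul]; exact D.Um0.mul_mem h2 h1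
  | inv a _ h1 => rw [D.τ_inv]; exact D.Um0.inv_mem h1

/-- `T` moves through `U0` -/
theorem U0_T {t : G} (ht : t ∈ D.T) {u : G} (hu : u ∈ D.U0) : ∃ u' ∈ D.U0, u * t = t * u' := by
  obtain ⟨v', hv', h2⟩ := D.T_Um0 ht (D.τ_U0 hu)
  refine ⟨D.τ v', D.τ_Um0 hv', ?_⟩
  have h3 := congrArg D.τ h2
  rw [D.τ_mul, D.τ_mul, D.τ_τ, D.τ_T t ht] at h3
  exact h3

/-- the move of `y i s` through an element of `U⁺` -/
theorem move {u : G} (hu : u ∈ D.U0) (i : ι) : ∃ (b : k) (B : Finset k), ∀ s, s ∉ B →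
    1 + b * s ≠ 0 ∧ ∃ t ∈ D.T, ∃ u' ∈ D.U0, u * D.y i s = D.y i (s / (1 + b * s)) * t * u' := by
  classical
  have key : ∀ (j : ι) (a : k) (u : G), (∃ (b : k) (B : Finset k), ∀ s, s ∉ B →
      1 + b * s ≠ 0 ∧ ∃ t ∈ D.T, ∃ u' ∈ D.U0, u * D.y i s = D.y i (s / (1 + b * s)) * t * u') →
      (∃ (b : k) (B : Finset k), ∀ s, s ∉ B →
      1 + b * s ≠ 0 ∧ ∃ t ∈ D.T, ∃ u' ∈ D.U0, D.x j a * u * D.y i s = D.y i (s / (1 + b * s)) * t * u') := by
    rintro j a u ⟨b, B, h⟩
    by_cases hji : j = i
    · subst hji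
      refine ⟨a + b, insert (- (a + b)⁻¹) B, fun s hs => ?_⟩
      rw [Finset.mem_insert, not_or] at hs
      obtain ⟨h0, t, ht, u', hu', h1⟩ := h s hs.2
      have h2 : 1 + (a + b) * s ≠ 0 := by
        intro h3
        have hab : a + b ≠ 0 := by rintro h4; rw [h4] at h3; simp at h3
        apply hs.1
        field_simp
        linear_combination h3
      refine ⟨h2, ?_⟩
      have h3 : 1 + a * (s / (1 + b * s)) = (1 + (a + b) * s) / (1 + b * s) := by
        rw [eq_div_iff h0, add_mul, mul_assoc a, div_mul_cancel₀ _ h0]; ring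
      have h4 : 1 + a * (s / (1 + b * s)) ≠ 0 := by rw [h3]; exact div_ne_zero h2 h0
      have h5 := D.rank j a (s / (1 + b * s)) (Units.mk0 _ h4) (by rw [Units.val_mk0])
      rw [Units.val_mk0] at h5
      obtain ⟨v, hv⟩ := D.T_x t ht j
      refine ⟨D.hh j (Units.mk0 _ h4) * t, D.T.mul_mem (D.hh_mem _ _) ht,
        D.x j (v * (a / (1 + a * (s / (1 + b * s))))) * u', D.U0.mul_mem (D.x_mem_U0 _ _) hu', ?_⟩
      rw [mul_assoc, h1, ← mul_assoc, ← mul_assoc, h5, mul_assoc _ _ t, hv]
      have h6 : s / (1 + b * s) / (1 + a * (s / (1 + b * s))) = s / (1 + (a + b) * s) := by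
        rw [h3]; exact div_div_div_cancel_right₀ h0 _ _
      rw [h6]
      simp only [mul_assoc]
    · refine ⟨b, B, fun s hs => ?_⟩
      obtain ⟨h0, t, ht, u', hu', h1⟩ := h s hs
      obtain ⟨v, hv⟩ := D.T_x t ht j
      refine ⟨h0, t, ht, D.x j (v * a) * u', D.U0.mul_mem (D.x_mem_U0 _ _) hu', ?_⟩
      rw [mul_assoc, h1, ← mul_assoc, ← mul_assoc, D.comm _ _ _ _ hji, mul_assoc _ _ t, hv]
      simp only [mul_assoc]
  unfold U0 at hu
  induction hu using Subgroup.closure_induction_left with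
  | one =>
    exact ⟨0, ∅, fun s _ => ⟨by simp, 1, D.T.one_mem, 1, D.U0.one_mem, by simp⟩⟩
  | mul_left u hu v _ h =>
    obtain ⟨j, a, rfl⟩ := hu
    exact key j a v h
  | inv_mul_cancel u hu v _ h =>
    obtain ⟨j, a, rfl⟩ := hu
    rw [← D.x_neg]
    exact key j (-a) v h

variable [Infinite k]

theorem eq_zero_of_cofin {P : k[X]} {B : Finset k} (h : ∀ s, s ∉ B → P.eval s = 0) : P = 0 := by
  apply Polynomial.eq_zero_of_infinite_isRoot
  apply Set.Infinite.mono (s := ((B : Set k)ᶜ))
  · intro s hs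
    exact h s (by simpa using hs)
  · exact B.finite_toSet.infinite_compl

/-- **density**: a function, polynomial along the `y i`, which is zero on `U⁻ T U` is zero -/
theorem dens {f : G → k} (hpol : ∀ i g h, ∃ P : k[X], ∀ s, f (g * D.y i s * h) = P.eval s)
    (h : ∀ v ∈ D.Um0, ∀ t ∈ D.T, ∀ u ∈ D.U0, f (v * t * u) = 0) (g : G) : f g = 0 := by
  have hx : ∀ (g : G) i s, (∀ v ∈ D.Um0, ∀ t ∈ D.T, ∀ u ∈ D.U0, f (v * t * u * g) = 0) →
      ∀ v ∈ D.Um0, ∀ t ∈ D.T, ∀ u ∈ D.U0, f (v * t * u * (D.x i s * g)) = 0 := by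
    intro g i s h v hv t ht u hu
    have := h v hv t ht _ (D.U0.mul_mem hu (D.x_mem_U0 i s))
    rwa [show v * t * u * (D.x i s * g) = v * t * (u * D.x i s) * g by group]
  have hy : ∀ (g : G) i s, (∀ v ∈ D.Um0, ∀ t ∈ D.T, ∀ u ∈ D.U0, f (v * t * u * g) = 0) →
      ∀ v ∈ D.Um0, ∀ t ∈ D.T, ∀ u ∈ D.U0, f (v * t * u * (D.y i s * g)) = 0 := by
    intro g i s h v hv t ht u hu
    obtain ⟨P, hP⟩ := hpol i (v * t * u) g
    obtain ⟨b, B, hB⟩ := D.move hu i
    have hP0 : P = 0 := by
      apply eq_zero_of_cofin (B := B)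
      intro s hs
      obtain ⟨-, t', ht', u', hu', h1⟩ := hB s hs
      obtain ⟨v', hv', h2⟩ := D.T_Um0 ht (D.y_mem_Um0 i (s / (1 + b * s)))
      rw [← hP, show v * t * u * D.y i s * g = v * t * (u * D.y i s) * g by group, h1,
        show v * t * (D.y i (s / (1 + b * s)) * t' * u') * g = v * (t * D.y i (s / (1 + b * s))) * t' * u' * g by group,
        h2, show v * (v' * t) * t' * u' * g = (v * v') * (t * t') * u' * g by group]
      exact h _ (D.Um0.mul_mem hv hv') _ (D.T.mul_mem ht ht') u' hu'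
    rw [← mul_assoc, hP, hP0, eval_zero]
  have key : ∀ g : G, ∀ v ∈ D.Um0, ∀ t ∈ D.T, ∀ u ∈ D.U0, f (v * t * u * g) = 0 := by
    intro g
    have hg : g ∈ Subgroup.closure {g | ∃ i s, g = D.x i s ∨ g = D.y i s} := by rw [D.gen]; trivial
    induction hg using Subgroup.closure_induction_left with
    | one => intro v hv t ht u hu; rw [mul_one]; exact h v hv t ht u hu
    | mul_left g' hg' g _ ih =>
      obtain ⟨i, s, rfl | rfl⟩ := hg'
      · exact hx g i s ih
      · exact hy g i s ih
    | inv_mul_cancel g' hg' g _ ih =>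
      obtain ⟨i, s, rfl | rfl⟩ := hg'
      · rw [← D.x_neg]; exact hx g i (-s) ih
      · rw [← D.y_neg]; exact hy g i (-s) ih
  have h1 := key g 1 D.Um0.one_mem 1 D.T.one_mem 1 D.U0.one_mem
  rwa [mul_one, mul_one, one_mul] at h1

/-- equality on the big cell is enough -/
theorem dens_eq {f f' : G → k} (hpol : ∀ i g h, ∃ P : k[X], ∀ s, f (g * D.y i s * h) = P.eval s)
    (hpol' : ∀ i g h, ∃ P : k[X], ∀ s, f' (g * D.y i s * h) = P.eval s)
    (h : ∀ v ∈ D.Um0, ∀ t ∈ D.T, ∀ u ∈ D.U0, f (v * t * u) = f' (v * t * u)) (g : G) : f g = f' g := by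
  have := D.dens (f := fun g => f g - f' g) (fun i g h => by
    obtain ⟨P, hP⟩ := hpol i g h
    obtain ⟨R, hR⟩ := hpol' i g h
    exact ⟨P - R, fun s => by rw [hP, hR, eval_sub]⟩) (fun v hv t ht u hu => sub_eq_zero.2 (h v hv t ht u hu)) g
  exact sub_eq_zero.1 this

end GDat

/-! ### the fundamental data from functions on the big cell -/

section mk

variable {ι Φ k G : Type*} [Field k] [Group G] [DecidableEq ι] [Infinite k]

/-- fundamental data from functions which are given by characters on the big cell -/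
def FDat.ofCell (D : GDat ι Φ k G) (Δ : ι → G → k) (wt : ι → ℤ) (N M : ℕ)
    (hmul : ∀ i, ∀ t ∈ D.T, ∀ t' ∈ D.T, Δ i (t * t') = Δ i t * Δ i t')
    (hcell : ∀ i, ∀ v ∈ D.Um, ∀ t ∈ D.T, ∀ u ∈ D.U, Δ i (v * t * u) = Δ i t)
    (hone : ∀ i, Δ i 1 = 1)
    (Δ_hh : ∀ i j (c : kˣ), Δ i (D.hh j c) = if i = j then (c : k) else 1)
    (Δ_δ : ∀ i (s : kˣ), Δ i (D.δ s) = ((s ^ wt i : kˣ) : k))
    (pol_z : ∀ i b g h, ∃ P : k[X], P.natDegree ≤ N ∧ ∀ s, Δ i (g * D.z b s * h) = P.eval s)
    (pol_y : ∀ i j g h, ∃ P : k[X], ∀ s, Δ i (g * D.y j s * h) = P.eval s)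
    (pol_δ : ∀ i g h, ∃ P : k[X], P.natDegree ≤ N ∧
      ∀ s : kˣ, (s : k) ^ M * Δ i (g * D.δ s * h) = P.eval (s : k)) : FDat ι Φ k G where
  toGDat := D
  Δ := Δ
  wt := wt
  N := N
  M := M
  Δ_one := hone
  Δ_z i b g s := by
    refine D.dens_eq (f := fun g => Δ i (g * D.z b s)) (f' := Δ i) (fun l g h => ?_) (fun l g h => pol_y i l g h) ?_ g
    · obtain ⟨P, hP⟩ := pol_y i l g (h * D.z b s)
      exact ⟨P, fun s' => by rw [← hP]; simp only [mul_assoc]⟩
    · intro v hv t ht u hu
      show Δ i (v * t * u * D.z b s) = _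
      rw [mul_assoc (v * t), hcell i v (D.Um0_le hv) t ht _ (D.U.mul_mem (D.U0_le hu) (D.z_mem_U b s)),
        hcell i v (D.Um0_le hv) t ht u (D.U0_le hu)]
  Δ_T i t ht g := by
    refine D.dens_eq (f := fun g => Δ i (g * t)) (f' := fun g => Δ i t * Δ i g) (fun l g h => ?_) (fun l g h => ?_) ?_ g
    · obtain ⟨P, hP⟩ := pol_y i l g (h * t)
      exact ⟨P, fun s' => by rw [← hP]; simp only [mul_assoc]⟩
    · obtain ⟨P, hP⟩ := pol_y i l g h
      exact ⟨C (Δ i t) * P, fun s' => by rw [hP, eval_mul, eval_C]⟩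
    · intro v hv t' ht' u hu
      show Δ i (v * t' * u * t) = Δ i t * Δ i (v * t' * u)
      -- move `t` to the left through `u`
      obtain ⟨u', hu', h1⟩ := D.U0_T ht hu
      rw [mul_assoc (v * t'), h1, ← mul_assoc, mul_assoc v,
        hcell i v (D.Um0_le hv) _ (D.T.mul_mem ht' ht) u' (D.U0_le hu'),
        hcell i v (D.Um0_le hv) t' ht' u (D.U0_le hu), hmul i t' ht' t ht, mul_comm]
  Δ_hh := Δ_hh
  Δ_δ := Δ_δ
  Δ_τ i g := by
    refine D.dens_eq (f := fun g => Δ i (D.τ g)) (f' := Δ i) (fun l g h => ?_) (fun l g h => pol_y i l g h) ?_ g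
    · obtain ⟨P, -, hP⟩ := pol_z i (D.zi l) (D.τ h) (D.τ g)
      refine ⟨P, fun s' => ?_⟩
      rw [← hP, D.τ_mul, D.τ_mul, D.τ_y, D.x_eq, mul_assoc]
    · intro v hv t ht u hu
      show Δ i (D.τ (v * t * u)) = _
      rw [D.τ_mul, D.τ_mul, D.τ_T t ht, ← mul_assoc, hcell i _ (D.τ_U (D.U0_le hu)) t ht _ (D.τ_Um (D.Um0_le hv)),
        hcell i v (D.Um0_le hv) t ht u (D.U0_le hu)]
  pol_z := pol_z
  pol_δ := pol_δ

end mk

end Cfsg.Agent.H45.UniE

private theorem dce_9db8ff6573ff : _root_.True := by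
  try have : _root_.True := by simp only [_root_.Cfsg.Agent.H45.UniE.GDat.Um0.eq_1]
  try have : _root_.True := by simp only [_root_.Cfsg.Agent.H45.UniE.GDat.U0.eq_1]
  exact _root_.True.intro
end

-- part: H405/UE/GD
section
prune_inst 0x1000290404000000000000028000200022000500000300004900000000000220290026418000000000008c002001004000000000002000000000000000000000000002020100a000000000000000000000000000000000000000000000000000000000000
set_option linter.all false
open scoped Cfsg.Agent.FastGrp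

/-!
# Theorem (U): the group data of `D.group k` (helper405)

`D` a tabulated datum of type `hp : IsType D l M`, `k` a field.

* `tau hp k` : the anti-automorphism `x_r(t) ↦ x_{-r}(t)` of `D.group k`, the identity on the torus;
* `PR D` : the positive roots;
* `gdat hp k : GDat (Fin l) (PR D) k ↥(D.group k)`;
* `cX_hc`, `cX_dl` : the characters of the coroot elements and of the contracting torus elements.
-/

set_option autoImplicit false
set_option linter.unusedSectionVars false

namespace Cfsg.Agent.H405.UE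

open Cfsg Cfsg.Lie Cfsg.Lie.ChevalleyDatum
open Cfsg.Agent.ChevalleyStructure Cfsg.Agent.ChevalleyStructure.Elts Cfsg.Agent.ChevalleyStructure.NPerm
  Cfsg.Agent.ChevalleyStructure.RootVec
open Cfsg.Agent.Nodes.RGDChev Cfsg.Agent.KFacts.RgdChevCoord Cfsg.Agent.Nodes Cfsg.Agent.H564.U
open Cfsg.Agent.H129.TorusChar Cfsg.Agent.Tits.Roots Cfsg.Agent.ChevalleyStructure.CoxeterGeom
  Cfsg.Agent.ChevalleyStructure.CoxeterGeomTypes

universe u

variable {D : ChevalleyDatum} {l : ℕ} {M : CoxeterMatrix (Fin l)} (hp : IsType D l M) {k : Type u} [Field k]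

/-! ### rank one -/

/-- diagonal matrices -/
def dg (c : kˣ) : Matrix.SpecialLinearGroup (Fin 2) k :=
  ⟨!![(c : k), 0; 0, (c : k)⁻¹], by simp [Matrix.det_fin_two]⟩

/-- the coroot element of any root -/
noncomputable def hrt (r : ℕ) (a : k) : ↥(D.group k) := ⟨hG hp.inList r a, hG_mem_group hp.inList _ a⟩

theorem hc_eq_hrt (j : Fin l) (a : k) : hc hp j a = hrt hp (D.simple j) a := rfl

variable (k) in
theorem exists_sl2 {r : ℕ} (h : r < D.nroots) : ∃ φ : Matrix.SpecialLinearGroup (Fin 2) k →* ↥(D.group k),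
    (∀ u, φ (sx u) = zz hp r u) ∧ (∀ u, φ (sy u) = zz hp (D.neg r) u) ∧ ∀ c : kˣ, φ (dg c) = hrt hp r (c : k) := by
  obtain ⟨φ, hφ, hxy⟩ := Cfsg.Agent.S1030.result (F := k) D hp.inList r h
  have hsx : ∀ u : k, φ (sx u) = xG hp.inList r u := fun u =>
    Units.ext (by rw [(hxy (sx u) u).1 rfl, coe_xG])
  have hsy : ∀ u : k, φ (sy u) = xG hp.inList (D.neg r) u := fun u =>
    Units.ext (by rw [(hxy (sy u) u).2 rfl, coe_xG])
  have hmem : ∀ A, φ A ∈ D.group k := by
    intro A
    have h1 : φ A ∈ φ.range := ⟨A, rfl⟩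
    rw [hφ] at h1
    refine (sup_le ?_ ?_ : D.rootSubgroup k r ⊔ D.rootSubgroup k (D.neg r) ≤ D.group k) h1
    · intro g hg
      obtain ⟨t, rfl⟩ := (mem_rootSubgroup_iff hp.inList r g).1 hg
      exact xG_mem_group _ _ _
    · intro g hg
      obtain ⟨t, rfl⟩ := (mem_rootSubgroup_iff hp.inList _ g).1 hg
      exact xG_mem_group _ _ _
  refine ⟨φ.codRestrict (D.group k) hmem, fun u => Subtype.ext (hsx u), fun u => Subtype.ext (hsy u), fun c => ?_⟩
  apply Subtype.ext
  show φ (dg c) = hG hp.inList r (c : k)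
  have e : (dg c : Matrix.SpecialLinearGroup (Fin 2) k) = (sx (c : k) * (sy (-(c : k)⁻¹) * sx (c : k))) *
      (sx (-1) * (sy (-(-1 : k)⁻¹) * sx (-1))) := by
    have h1 := (eq_of_zero (A := dg c) rfl).2
    have e0 : (dg c : Matrix.SpecialLinearGroup (Fin 2) k).1 0 0 = (c : k) := rfl
    have e1 : (dg c : Matrix.SpecialLinearGroup (Fin 2) k).1 0 1 / (dg c : Matrix.SpecialLinearGroup (Fin 2) k).1 0 0 = 0 := by
      show (0 : k) / _ = 0
      rw [zero_div]
    rw [e1, e0] at h1
    have e2 : (sx (0 : k)) = 1 := by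
      apply Subtype.ext
      show !![1, (0 : k); 0, 1] = 1
      exact Matrix.one_fin_two.symm
    rw [e2, mul_one] at h1
    exact h1
  rw [e]
  simp only [map_mul, hsx, hsy]
  rw [hG_def, nG_def, nG_def]

theorem rank_one {r : ℕ} (h : r < D.nroots) (a s : k) (c : kˣ) (hc : (c : k) = 1 + a * s) :
    zz hp r a * zz hp (D.neg r) s = zz hp (D.neg r) (s / c) * hrt hp r (c : k) * zz hp r (a / c) := by
  obtain ⟨φ, h1, h2, h3⟩ := exists_sl2 hp k h
  rw [← h1, ← h2, ← h2, ← h3, ← h1, ← map_mul, ← map_mul, ← map_mul]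
  congr 1
  apply Subtype.ext
  have hc0 : (c : k) ≠ 0 := c.ne_zero
  show !![1, a; 0, 1] * !![1, 0; s, 1] = !![1, 0; s / (c : k), 1] * !![(c : k), 0; 0, (c : k)⁻¹] * !![1, a / (c : k); 0, 1]
  ext i j
  fin_cases i <;> fin_cases j
  · simp only [hc, _root_.Fin.zero_eta, _root_.Fin.isValue, _root_.Matrix.cons_mul, _root_.Nat.succ_eq_add_one, _root_.Nat.reduceAdd, _root_.Matrix.vecMul_cons, _root_.Matrix.head_cons, _root_.one_smul, _root_.Matrix.tail_cons, _root_.Matrix.smul_cons, _root_.smul_eq_mul, _root_.mul_one, _root_.Matrix.smul_empty, _root_.Matrix.empty_vecMul, _root_.add_zero, _root_.Matrix.add_cons, _root_.zero_add, _root_.Matrix.empty_add_empty, _root_.zero_smul, _root_.Matrix.empty_mul, _root_.Equiv.symm_apply_apply, _root_.Matrix.of_apply, _root_.Matrix.cons_val', _root_.Matrix.cons_val_zero, _root_.Matrix.cons_val_fin_one, _root_.MulZeroClass.mul_zero]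
  · simp
    field_simp
  · simp
  · simp
    field_simp
    rw [hc]; ring

/-! ### the anti-automorphism -/

/-- the anti-automorphism `x_r(t) ↦ x_{-r}(t)` -/
noncomputable def tau (g : ↥(D.group k)) : ↥(D.group k) := ((negSymm hp.inList).aut k g)⁻¹

theorem zz_add (r : ℕ) (a b : k) : zz hp r (a + b) = zz hp r a * zz hp r b := by
  apply Subtype.ext
  exact (xG_add hp.inList r a b).symm

theorem aut_zz {r : ℕ} (h : r < D.nroots) (a : k) :
    (negSymm hp.inList).aut k (zz hp r a) = zz hp (D.neg r) (-a) := by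
  apply Subtype.ext
  exact negAut_xG hp.inList r a h

theorem tau_zz {r : ℕ} (h : r < D.nroots) (a : k) : tau hp (zz hp r a) = zz hp (D.neg r) a := by
  unfold tau
  rw [aut_zz hp h, zz_inv, _root_.neg_neg]

theorem tau_mul (a b : ↥(D.group k)) : tau hp (a * b) = tau hp b * tau hp a := by
  unfold tau
  rw [map_mul, mul_inv_rev]

theorem tau_one : tau hp (1 : ↥(D.group k)) = 1 := by
  unfold tau
  rw [map_one, inv_one]

theorem tau_inv (a : ↥(D.group k)) : tau hp a⁻¹ = (tau hp a)⁻¹ := by
  unfold tau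
  rw [map_inv]

/-- `D.group k` is generated by the root elements -/
theorem closure_zz : Subgroup.closure {g : ↥(D.group k) | ∃ r, r < D.nroots ∧ ∃ a, g = zz hp r a} = ⊤ := by
  set K := Subgroup.closure {g : ↥(D.group k) | ∃ r, r < D.nroots ∧ ∃ a, g = zz hp r a} with hK
  have h1 : D.group k ≤ K.map (D.group k).subtype := by
    rw [group_le_iff hp.inList]
    intro r hr t
    exact ⟨zz hp r t, Subgroup.subset_closure ⟨r, hr, t, rfl⟩, rfl⟩
  rw [eq_top_iff]
  rintro ⟨g, hg⟩ -
  obtain ⟨g', hg', e⟩ := h1 hg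
  have : g' = ⟨g, hg⟩ := Subtype.ext e
  rwa [← this]

/-- a statement about `D.group k` from root elements -/
theorem zz_induction {P : ↥(D.group k) → Prop} (h1 : P 1) (hz : ∀ r, r < D.nroots → ∀ a, P (zz hp r a))
    (hm : ∀ a b, P a → P b → P (a * b)) (hi : ∀ a, P a → P a⁻¹) (g : ↥(D.group k)) : P g := by
  have hg : g ∈ Subgroup.closure {g : ↥(D.group k) | ∃ r, r < D.nroots ∧ ∃ a, g = zz hp r a} := by
    rw [closure_zz]; trivial
  induction hg using Subgroup.closure_induction with
  | mem g hg => obtain ⟨r, hr, a, rfl⟩ := hg; exact hz r hr a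
  | one => exact h1
  | mul a b _ _ ha hb => exact hm a b ha hb
  | inv a _ ha => exact hi a ha

theorem tau_tau (g : ↥(D.group k)) : tau hp (tau hp g) = g := by
  refine zz_induction hp (P := fun g => tau hp (tau hp g) = g) ?_ ?_ ?_ ?_ g
  · rw [tau_one, tau_one]
  · intro r hr a
    rw [tau_zz hp hr, tau_zz hp (RootVec.neg_lt hp.checked hr), RootVec.neg_neg hp.checked hr]
  · intro a b ha hb
    rw [tau_mul, tau_mul, ha, hb]
  · intro a ha
    rw [tau_inv, tau_inv, ha]

theorem tau_hrt {r : ℕ} (h : r < D.nroots) (c : kˣ) : tau hp (hrt hp r (c : k)) = hrt hp r (c : k) := by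
  obtain ⟨φ, h1, h2, h3⟩ := exists_sl2 hp k h
  have h1' : ∀ u, tau hp (φ (sx u)) = φ (sy u) := fun u => by rw [h1, h2, tau_zz hp h]
  have h2' : ∀ u, tau hp (φ (sy u)) = φ (sx u) := fun u => by
    rw [h1, h2, tau_zz hp (RootVec.neg_lt hp.checked h), RootVec.neg_neg hp.checked h]
  have e : (dg c : Matrix.SpecialLinearGroup (Fin 2) k) = (sx (c : k) * (sy (-(c : k)⁻¹) * sx (c : k))) *
      (sx (-1) * (sy 1 * sx (-1))) := by
    have hc0 : (c : k) ≠ 0 := c.ne_zero
    apply Subtype.ext
    show !![(c : k), 0; 0, (c : k)⁻¹] = !![1, (c : k); 0, 1] * (!![1, 0; -(c : k)⁻¹, 1] * !![1, (c : k); 0, 1]) *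
      (!![1, -1; 0, 1] * (!![1, 0; 1, 1] * !![1, -1; 0, 1]))
    ext i j
    (revert i j; simp [hc0, _root_.Fin.forall_fin_succ])
  have e' : (dg c : Matrix.SpecialLinearGroup (Fin 2) k) = (sy (-1) * sx 1 * sy (-1)) *
      (sy (c : k) * sx (-(c : k)⁻¹) * sy (c : k)) := by
    have hc0 : (c : k) ≠ 0 := c.ne_zero
    apply Subtype.ext
    show !![(c : k), 0; 0, (c : k)⁻¹] = !![1, 0; -1, 1] * !![1, 1; 0, 1] * !![1, 0; -1, 1] *
      (!![1, 0; (c : k), 1] * !![1, -(c : k)⁻¹; 0, 1] * !![1, 0; (c : k), 1])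
    ext i j
    (revert i j; simp [hc0, _root_.Fin.forall_fin_succ])
  have h4 : tau hp (φ (dg c)) = φ (dg c) := by
    conv_lhs => rw [e]
    conv_rhs => rw [e']
    simp only [map_mul, tau_mul, h1', h2']
  rw [← h3, h4]

/-! ### the torus -/

theorem hrt_mem {r : ℕ} (h : r < D.nroots) (c : kˣ) : hrt hp r (c : k) ∈ TT D k :=
  hG_mem_diagonal hp.inList h c.ne_zero

include hp in
theorem TT_comm {s t : ↥(D.group k)} (hs : s ∈ TT D k) (ht : t ∈ TT D k) : s * t = t * s := by
  refine cX_inj hp (mul_mem hs ht) (mul_mem ht hs) fun i => ?_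
  rw [cX_mul hp hs ht, cX_mul hp ht hs, mul_comm]

/-- the torus is generated by the coroot elements -/
theorem TT_induction {P : ↥(D.group k) → Prop} (h1 : P 1)
    (hz : ∀ r, r < D.nroots → ∀ c : kˣ, P (hrt hp r (c : k)))
    (hm : ∀ a b, a ∈ TT D k → b ∈ TT D k → P a → P b → P (a * b)) (hi : ∀ a, a ∈ TT D k → P a → P a⁻¹)
    {t : ↥(D.group k)} (ht : t ∈ TT D k) : P t := by
  have key : ∀ g, g ∈ D.diagonalSubgroup k → ∀ hg : g ∈ D.group k, P ⟨g, hg⟩ := by
    intro g hg
    unfold ChevalleyDatum.diagonalSubgroup at hg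
    induction hg using Subgroup.closure_induction with
    | mem g hg =>
      obtain ⟨r, c, hr, hc, hg⟩ := hg
      intro hg'
      have e : (⟨g, hg'⟩ : ↥(D.group k)) = hrt hp r ((Units.mk0 c hc : kˣ) : k) :=
        Subtype.ext ((eq_hG_iff hp.inList g r c).2 hg)
      rw [e]
      exact hz r hr _
    | one => intro hg'; exact h1
    | mul a b ha hb iha ihb =>
      intro hg'
      have ha' : a ∈ D.group k := diagonal_le_group hp.inList k ha
      have hb' : b ∈ D.group k := diagonal_le_group hp.inList k hb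
      exact hm ⟨a, ha'⟩ ⟨b, hb'⟩ ha hb (iha ha') (ihb hb')
    | inv a ha iha =>
      intro hg'
      have ha' : a ∈ D.group k := diagonal_le_group hp.inList k ha
      exact hi ⟨a, ha'⟩ ha (iha ha')
  exact key t.1 ht t.2

theorem tau_TT {t : ↥(D.group k)} (ht : t ∈ TT D k) : tau hp t = t := by
  refine TT_induction hp (P := fun t => tau hp t = t) (tau_one hp) (fun r hr c => tau_hrt hp hr c) ?_ ?_ ht
  · intro a b ha hb h1 h2
    rw [tau_mul, h1, h2, TT_comm hp ha hb]
  · intro a ha h1
    rw [tau_inv, h1]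

theorem zz_vec {r : ℕ} (h : r < D.nroots) (a : k) : xc hp (vec D l r) a = zz hp r a :=
  Subtype.ext (coe_xc hp h a)

theorem zz_simple (i : Fin l) (a : k) : xc hp (sr i) a = zz hp (D.simple i) a := by
  rw [← vec_simple hp i, zz_vec hp (NPerm.simple_lt hp.inList (lt_rank hp i))]

theorem zz_neg_simple (i : Fin l) (a : k) : xc hp (-sr i) a = zz hp (D.neg (D.simple i)) a := by
  have h := NPerm.simple_lt hp.inList (lt_rank hp i)
  rw [← vec_simple hp i, ← vec_neg hp h, zz_vec hp (RootVec.neg_lt hp.checked h)]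

/-- the action of the torus on the root elements -/
theorem TT_zz {t : ↥(D.group k)} (ht : t ∈ TT D k) {r : ℕ} (h : r < D.nroots) (a : k) :
    t * zz hp r a = zz hp r (cX hp t (vec D l r) * a) * t := by
  have h1 := (act hp h ht).2 a
  rw [zz_vec hp h, zz_vec hp h, ← cX_vec hp ht h] at h1
  rw [← h1, inv_mul_cancel_right]

theorem isMC_pairing (c : kˣ) (j : Fin l) :
    IsMC (fun v : Fin l → ℤ => ((c ^ pairing (cartanOf D l) j v : kˣ) : k)) where
  zero := by
    have : pairing (cartanOf D l) j 0 = 0 := by simp only [pairing, _root_.Pi.zero_apply, _root_.MulZeroClass.mul_zero, _root_.Finset.sum_const_zero]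
    rw [this, zpow_zero, Units.val_one]
  add x y := by
    rw [pairing_add, zpow_add, Units.val_mul]

/-- **the characters of the coroot elements** -/
theorem cX_hc (j : Fin l) (c : kˣ) (v : Fin l → ℤ) :
    cX hp (hc hp j (c : k)) v = ((c ^ pairing (cartanOf D l) j v : kˣ) : k) := by
  refine (isMC_cX hp (hc_mem hp j c.ne_zero)).ext (isMC_pairing c j) (fun i => ?_) v
  have h := NPerm.simple_lt hp.inList (lt_rank hp i)
  rw [cX_sr, ← vec_simple hp i, ch_hc hp j c.ne_zero h, pairing_vec hp j h, Units.val_zpow_eq_zpow_val]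

/-! ### the contracting torus -/

theorem exists_two_rho (hp : IsType D l M) : ∃ c : Fin l → ℤ, ∀ i, ∑ j, c j * cartanOf D l j i = 2 := by
  simp only [IsType, typeList, List.mem_cons, List.not_mem_nil, or_false, Prod.mk.injEq, Sigma.mk.injEq] at hp
  rcases hp with ⟨rfl, rfl, -⟩ | ⟨rfl, rfl, -⟩ | ⟨rfl, rfl, -⟩ | ⟨rfl, rfl, -⟩ | ⟨rfl, rfl, -⟩ | ⟨rfl, rfl, -⟩ |
    ⟨rfl, rfl, -⟩
  · exact ⟨![6, 10], by decide +kernel⟩
  · exact ⟨![3, 4], by decide +kernel⟩
  · exact ⟨![6, 10, 6, 6], by decide +kernel⟩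
  · exact ⟨![16, 30, 42, 22], by decide +kernel⟩
  · exact ⟨![16, 22, 30, 42, 30, 16], by decide +kernel⟩
  · exact ⟨![34, 49, 66, 96, 75, 52, 27], by decide +kernel⟩
  · exact ⟨![92, 136, 182, 270, 220, 168, 114, 58], by decide +kernel⟩

/-- products of coroot elements -/
theorem exists_prod (c : Fin l → kˣ) (S : Finset (Fin l)) : ∃ t ∈ TT D k, ∀ v : Fin l → ℤ,
    cX hp t v = ((∏ j ∈ S, c j ^ pairing (cartanOf D l) j v : kˣ) : k) := by
  classical
  induction S using Finset.induction_on with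
  | empty => exact ⟨1, one_mem _, fun v => by rw [cX_one, Finset.prod_empty, Units.val_one]⟩
  | insert j S hj ih =>
    obtain ⟨t, ht, h⟩ := ih
    refine ⟨hc hp j (c j : k) * t, mul_mem (hc_mem hp j (c j).ne_zero) ht, fun v => ?_⟩
    rw [cX_mul hp (hc_mem hp j (c j).ne_zero) ht, cX_hc, h, Finset.prod_insert hj, Units.val_mul]

theorem prod_zpow_sum {A ι : Type*} [CommGroup A] (s : A) (S : Finset ι) (f : ι → ℤ) :
    ∏ j ∈ S, s ^ f j = s ^ (∑ j ∈ S, f j) := by
  classical
  induction S using Finset.induction_on with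
  | empty => simp
  | insert j S hj ih => rw [Finset.prod_insert hj, Finset.sum_insert hj, ih, zpow_add]

theorem exists_dl (s : kˣ) : ∃ t ∈ TT D k, ∀ v : Fin l → ℤ, cX hp t v = ((s ^ (2 * ∑ i, v i) : kˣ) : k) := by
  obtain ⟨c, hc⟩ := exists_two_rho hp
  obtain ⟨t, ht, h⟩ := exists_prod hp (fun j => s ^ c j) Finset.univ
  refine ⟨t, ht, fun v => ?_⟩
  rw [h]
  congr 1
  have h1 : ∀ j ∈ Finset.univ, (s ^ c j) ^ pairing (cartanOf D l) j v = s ^ (c j * pairing (cartanOf D l) j v) :=
    fun j _ => (zpow_mul _ _ _).symm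
  rw [Finset.prod_congr rfl h1, prod_zpow_sum]
  congr 1
  unfold pairing
  simp only [Finset.mul_sum]
  rw [Finset.sum_comm]
  refine Finset.sum_congr rfl fun i _ => ?_
  rw [← hc i, Finset.sum_mul]
  exact Finset.sum_congr rfl fun j _ => by ring

/-- the contracting torus: `dl s` acts on `x_r` by `s ^ (2 * height r)` -/
noncomputable def dl (s : kˣ) : ↥(D.group k) := (exists_dl hp s).choose

theorem dl_mem (s : kˣ) : dl hp s ∈ TT D k := (exists_dl hp s).choose_spec.1

/-- **the characters of the contracting torus** -/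
theorem cX_dl (s : kˣ) (v : Fin l → ℤ) : cX hp (dl hp s) v = ((s ^ (2 * ∑ i, v i) : kˣ) : k) :=
  (exists_dl hp s).choose_spec.2 v

theorem dl_mul (s t : kˣ) : dl hp (s * t) = dl hp s * dl hp t := by
  refine cX_inj hp (dl_mem hp _) (mul_mem (dl_mem hp s) (dl_mem hp t)) fun i => ?_
  rw [cX_mul hp (dl_mem hp s) (dl_mem hp t), cX_dl, cX_dl, cX_dl, mul_zpow, Units.val_mul]

theorem exists_dl_eq : ∃ c : Fin l → ℤ, ∀ s : kˣ,
    dl hp s = ((List.finRange l).map fun j => hc hp j (s : k) ^ c j).prod := by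
  obtain ⟨c, hc'⟩ := exists_two_rho hp
  refine ⟨c, fun s => ?_⟩
  have hz : ∀ j (n : ℤ), hc hp j (s : k) ^ n ∈ TT D k := fun j n => zpow_mem (hc_mem hp j s.ne_zero) n
  have hz2 : ∀ j (n : ℤ) (v : Fin l → ℤ),
      cX hp (hc hp j (s : k) ^ n) v = ((s ^ (n * pairing (cartanOf D l) j v) : kˣ) : k) := by
    intro j n v
    have hpow : ∀ m : ℕ, cX hp (hc hp j (s : k) ^ m) v = ((s ^ ((m : ℤ) * pairing (cartanOf D l) j v) : kˣ) : k) := by
      intro m
      rw [cX_pow hp (hc_mem hp j s.ne_zero), cX_hc, ← Units.val_pow_eq_pow_val, ← zpow_natCast, ← zpow_mul, mul_comm]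
    obtain ⟨m, rfl | rfl⟩ := Int.eq_nat_or_neg n
    · rw [zpow_natCast]; exact hpow m
    · have h2 : cX hp (hc hp j (s : k) ^ (-(m : ℤ)) * hc hp j (s : k) ^ m) v = 1 := by
        rw [zpow_neg, zpow_natCast, inv_mul_cancel, cX_one]
      rw [cX_mul hp (hz j _) (pow_mem (hc_mem hp j s.ne_zero) m), hpow] at h2
      rw [neg_mul, zpow_neg s, Units.val_inv_eq_inv_val]
      exact eq_inv_of_mul_eq_one_left h2
  have key : ∀ L : List (Fin l), (L.map fun j => hc hp j (s : k) ^ c j).prod ∈ TT D k ∧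
      ∀ v : Fin l → ℤ, cX hp (L.map fun j => hc hp j (s : k) ^ c j).prod v =
        ((s ^ (L.map fun j => c j * pairing (cartanOf D l) j v).sum : kˣ) : k) := by
    intro L
    induction L with
    | nil => exact ⟨one_mem _, fun v => by simp [cX_one]⟩
    | cons j L ih =>
      rw [List.map_cons, List.prod_cons]
      refine ⟨mul_mem (hz j _) ih.1, fun v => ?_⟩
      rw [cX_mul hp (hz j _) ih.1, hz2, ih.2, List.map_cons, List.sum_cons, zpow_add, Units.val_mul]
  refine cX_inj hp (dl_mem hp s) (key _).1 fun i => ?_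
  rw [(key _).2, cX_dl]
  congr 2
  have h1 : (List.map (fun j => c j * pairing (cartanOf D l) j (sr i)) (List.finRange l)).sum =
      ∑ j, c j * cartanOf D l j i := by
    rw [← List.sum_ofFn, List.ofFn_eq_map]
    congr 1
    refine List.map_congr_left fun j _ => ?_
    congr 1
    unfold pairing
    rw [Finset.sum_eq_single i]
    · rw [sr_self, mul_one]
    · intro m _ hm; rw [sr_ne hm, mul_zero]
    · intro h; exact absurd (Finset.mem_univ i) h
  rw [h1, hc' i, Finset.sum_eq_single i]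
  · rw [sr_self, mul_one]
  · intro m _ hm; exact sr_ne hm
  · intro h; exact absurd (Finset.mem_univ i) h

/-- **the contracting torus is algebraic** -/
theorem alg_dl : Alg (zz hp (k := k)) (dl hp) := by
  obtain ⟨c, h⟩ := exists_dl_eq hp (k := k)
  have e : (dl hp : kˣ → ↥(D.group k)) = fun s : kˣ => ((List.finRange l).map fun j => hc hp j (s : k) ^ c j).prod :=
    funext h
  rw [e]
  exact Alg.listProd (z := zz hp) (F := fun j (s : kˣ) => hc hp j (s : k) ^ c j) (List.finRange l) fun j _ =>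
    (alg_hc hp j).zpow (zz_inv hp) (c j)

/-! ### the positive roots -/

/-- the positive roots -/
abbrev PR (D : ChevalleyDatum) : Type := {r : ℕ // D.IsPosRoot r}

/-- the degree: twice the height -/
def htt (D : ChevalleyDatum) (l : ℕ) (b : PR D) : ℕ := (2 * ∑ i, vec D l b.1 i).toNat

theorem vec_nonneg (hp : IsType D l M) (b : PR D) (i : Fin l) : 0 ≤ vec D l b.1 i :=
  ((isPosRoot_iff hp.checked b.1).1 b.2).2 i (lt_rank hp i)

theorem exists_vec_pos (hp : IsType D l M) (b : PR D) : ∃ i, 0 < vec D l b.1 i := by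
  obtain ⟨i, hi, h⟩ := exists_rt_ne_zero hp.checked b.2.1
  rw [hp.rank_eq] at hi
  exact ⟨⟨i, hi⟩, lt_of_le_of_ne (vec_nonneg hp b ⟨i, hi⟩) (Ne.symm h)⟩

theorem sum_vec_pos (hp : IsType D l M) (b : PR D) : 0 < ∑ i, vec D l b.1 i := by
  obtain ⟨i, hi⟩ := exists_vec_pos hp b
  exact Finset.sum_pos' (fun i _ => vec_nonneg hp b i) ⟨i, Finset.mem_univ _, hi⟩

theorem htt_pos (hp : IsType D l M) (b : PR D) : 0 < htt D l b := by
  have := sum_vec_pos hp b
  unfold htt
  omega

theorem htt_cast (hp : IsType D l M) (b : PR D) : (htt D l b : ℤ) = 2 * ∑ i, vec D l b.1 i := by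
  have := sum_vec_pos hp b
  unfold htt
  omega

theorem dl_zz (s : kˣ) (b : PR D) (a : k) : dl hp s * zz hp b.1 a = zz hp b.1 ((s : k) ^ htt D l b * a) * dl hp s := by
  rw [TT_zz hp (dl_mem hp s) b.2.1, cX_dl, ← htt_cast hp b, zpow_natCast, Units.val_pow_eq_pow_val]

/-- the simple roots -/
def psr (hp : IsType D l M) (i : Fin l) : PR D := ⟨D.simple i, simple_pos hp.checked (lt_rank hp i)⟩

/-! ### commutators -/

theorem mem_pos_or_neg (hp : IsType D l M) {r : ℕ} (h : r < D.nroots) :
    (∀ i, 0 ≤ vec D l r i) ∨ ∀ i, vec D l r i ≤ 0 := by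
  rcases pos_or_neg hp.checked h with h1 | h1
  · exact Or.inl fun i => ((isPosRoot_iff hp.checked r).1 h1).2 i (lt_rank hp i)
  · exact Or.inr fun i => ((isNegRoot_iff hp.checked r).1 h1).2 i (lt_rank hp i)

include hp in
theorem commTerms_nil {i j : Fin l} (hij : i ≠ j) : D.commTerms (D.simple i) (D.neg (D.simple j)) = [] := by
  rw [List.eq_nil_iff_forall_not_mem]
  rintro ⟨u, C, p, q⟩ hu
  obtain ⟨h1, -, -, hp1, hq1, h2⟩ := commTerms_rt hp.checked hu
  have hj := NPerm.simple_lt hp.inList (lt_rank hp j)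
  have e1 : vec D l u i = p := by
    rw [vec_apply, h2, ← vec_apply (l := l), ← vec_apply (l := l), vec_neg hp hj, vec_simple hp i, vec_simple hp j,
      Pi.neg_apply, sr_self, sr_ne hij]
    ring
  have e2 : vec D l u j = - q := by
    rw [vec_apply, h2, ← vec_apply (l := l), ← vec_apply (l := l), vec_neg hp hj, vec_simple hp i, vec_simple hp j,
      Pi.neg_apply, sr_self, sr_ne hij.symm]
    ring
  rcases mem_pos_or_neg hp h1 with h3 | h3
  · have := h3 j
    omega
  · have := h3 i
    omega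

theorem comm_eq {r s : ℕ} (hr : r < D.nroots) (hs : s < D.nroots) (hrs : s ≠ r) (hneg : s ≠ D.neg r) (t u : k) :
    (xG hp.inList r t)⁻¹ * xG hp.inList s u * xG hp.inList r t =
      xG hp.inList s u * wordG hp.inList (D.commWord k r s t u) := by
  have h1 := comm_xG hp hr hs hrs hneg t u
  rw [commutatorElement_def, inv_inv, inv_inv] at h1
  rw [← h1]
  group

theorem zz_comm {i j : Fin l} (hij : i ≠ j) (a s : k) :
    zz hp (D.simple i) a * zz hp (D.neg (D.simple j)) s = zz hp (D.neg (D.simple j)) s * zz hp (D.simple i) a := by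
  have hi := NPerm.simple_lt hp.inList (lt_rank hp i)
  have hj := NPerm.simple_lt hp.inList (lt_rank hp j)
  have hnj := RootVec.neg_lt hp.checked hj
  have hne : D.neg (D.simple j) ≠ D.simple i := by
    intro h
    have h1 := congrArg (fun r => vec D l r i) h
    simp only [vec_neg hp hj, vec_simple hp, Pi.neg_apply, sr_self, sr_ne hij] at h1
    omega
  have hne' : D.neg (D.simple j) ≠ D.neg (D.simple i) := by
    intro h
    have h1 := congrArg (fun r => vec D l r i) h
    simp only [vec_neg hp hj, vec_neg hp hi, vec_simple hp, Pi.neg_apply, sr_self, sr_ne hij] at h1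
    omega
  have h1 := comm_eq hp hi hnj hne hne' a s
  have h2 : D.commWord k (D.simple i) (D.neg (D.simple j)) a s = [] := by
    unfold ChevalleyDatum.commWord
    rw [commTerms_nil hp hij, List.map_nil]
  rw [h2, wordG_nil, mul_one] at h1
  apply Subtype.ext
  show xG hp.inList (D.simple i) a * xG hp.inList (D.neg (D.simple j)) s =
    xG hp.inList (D.neg (D.simple j)) s * xG hp.inList (D.simple i) a
  calc xG hp.inList (D.simple i) a * xG hp.inList (D.neg (D.simple j)) s
      = xG hp.inList (D.simple i) a * ((xG hp.inList (D.simple i) a)⁻¹ * xG hp.inList (D.neg (D.simple j)) s *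
        xG hp.inList (D.simple i) a) := by rw [h1]
    _ = _ := by group

/-- the commutator formula for a simple and a positive root -/
theorem zz_cmt (i : Fin l) (b : PR D) (s : k) : ∃ L : List (PR D × k × ℕ), (∀ a ∈ L, 0 < a.2.2) ∧
    ∀ t, zz hp (D.simple i) (-s) * zz hp b.1 t * zz hp (D.simple i) s =
      (L.map fun a => zz hp a.1.1 (a.2.1 * t ^ a.2.2)).prod := by
  have hi := NPerm.simple_lt hp.inList (lt_rank hp i)
  by_cases hbi : b.1 = D.simple i
  · refine ⟨[(b, 1, 1)], by simp, fun t => ?_⟩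
    rw [hbi, ← zz_add, ← zz_add]
    simp [hbi]
  have hbi' : b.1 ≠ D.neg (D.simple i) := by
    intro h
    have h1 := vec_nonneg hp b i
    rw [h, vec_neg hp hi, vec_simple hp, Pi.neg_apply, sr_self] at h1
    omega
  have hpos : ∀ c ∈ D.commTerms (D.simple i) b.1, D.IsPosRoot c.1 := by
    rintro ⟨u, C, p, q⟩ hu
    obtain ⟨h1, -, -, hp1, hq1, h2⟩ := commTerms_rt hp.checked hu
    rw [isPosRoot_iff hp.checked]
    refine ⟨h1, fun a ha => ?_⟩
    rw [h2]
    have h3 := ((isPosRoot_iff hp.checked _).1 b.2).2 a ha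
    have h4 := ((isPosRoot_iff hp.checked _).1 (psr hp i).2).2 a ha
    have h5 : 0 ≤ rt D (D.simple i) a := h4
    (clear * - h3 h4; positivity)
  classical
  refine ⟨(b, 1, 1) :: (D.commTerms (D.simple i) b.1).attach.map fun c =>
    (⟨c.1.1, hpos c.1 c.2⟩, (c.1.2.1 : k) * (-s) ^ c.1.2.2.1, c.1.2.2.2), ?_, fun t => ?_⟩
  · intro a ha
    rcases List.mem_cons.1 ha with rfl | ha
    · exact Nat.one_pos
    · obtain ⟨⟨⟨u, C, p, q⟩, hc⟩, -, rfl⟩ := List.mem_map.1 ha
      exact (commTerms_rt hp.checked hc).2.2.2.2.1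
  · apply Subtype.ext
    have h1 := comm_eq hp hi b.2.1 hbi hbi' s t
    rw [xG_inv] at h1
    have h2 : (((zz hp (D.simple i) (-s) * zz hp b.1 t * zz hp (D.simple i) s : ↥(D.group k))) : GL D.Idx k) =
      xG hp.inList (D.simple i) (-s) * xG hp.inList b.1 t * xG hp.inList (D.simple i) s := rfl
    rw [h2, h1, List.map_cons, List.prod_cons, Subgroup.coe_mul, one_mul, pow_one]
    congr 1
    rw [List.map_map]
    unfold wordG ChevalleyDatum.commWord
    rw [List.map_map]
    have h3 : ∀ L : List {c // c ∈ D.commTerms (D.simple i) b.1},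
        ((L.map ((fun a : PR D × k × ℕ => zz hp a.1.1 (a.2.1 * t ^ a.2.2)) ∘ fun c =>
          (⟨c.1.1, hpos c.1 c.2⟩, (c.1.2.1 : k) * (-s) ^ c.1.2.2.1, c.1.2.2.2))).prod : ↥(D.group k)) =
        (L.map (fun c => zz hp c.1.1 ((c.1.2.1 : k) * (-s) ^ c.1.2.2.1 * t ^ c.1.2.2.2))).prod := fun L => rfl
    rw [h3]
    have h4 : ∀ L : List {c // c ∈ D.commTerms (D.simple i) b.1},
        (((L.map (fun c => zz hp c.1.1 ((c.1.2.1 : k) * (-s) ^ c.1.2.2.1 * t ^ c.1.2.2.2))).prod : ↥(D.group k)) :
          GL D.Idx k) = ((L.map Subtype.val).map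
            (fun c => xG hp.inList c.1 ((c.2.1 : k) * (-s) ^ c.2.2.1 * t ^ c.2.2.2))).prod := by
      intro L
      induction L with
      | nil => rfl
      | cons c L ih =>
        simp only [List.map_cons, List.prod_cons]
        rw [Subgroup.coe_mul, ih]
        rfl
    rw [h4, List.attach_map_subtype_val]
    rfl

/-! ### generation by the simple root elements -/

theorem closure_simple : Subgroup.closure {g : ↥(D.group k) | ∃ i s, g = xc hp (sr i) s ∨ g = xc hp (-sr i) s} = ⊤ := by
  set K := Subgroup.closure {g : ↥(D.group k) | ∃ i s, g = xc hp (sr i) s ∨ g = xc hp (-sr i) s} with hK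
  have hx : ∀ (i : Fin l) s, zz hp (D.simple i) s ∈ K := fun i s => by
    rw [← zz_simple]
    exact Subgroup.subset_closure ⟨i, s, Or.inl rfl⟩
  have hy : ∀ (i : Fin l) s, zz hp (D.neg (D.simple i)) s ∈ K := fun i s => by
    rw [← zz_neg_simple]
    exact Subgroup.subset_closure ⟨i, s, Or.inr rfl⟩
  have hn : ∀ i, nc hp k i ∈ K := by
    intro i
    have e : nc hp k i = zz hp (D.simple i) 1 * (zz hp (D.neg (D.simple i)) (-(1 : k)⁻¹) * zz hp (D.simple i) 1) := by
      apply Subtype.ext
      show nG hp.inList (D.simple i) 1 = _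
      rw [nG_def]
      rfl
    rw [e]
    exact mul_mem (hx _ _) (mul_mem (hy _ _) (hx _ _))
  have hall : ∀ r, r < D.nroots → ∀ a, zz hp r a ∈ K := by
    intro r hr
    refine Reach.reach hp.inList (fun s => ∀ a : k, zz hp s a ∈ K) ?_ ?_ r hr
    · intro i hi a
      have hi' : i < l := by rw [← hp.rank_eq]; exact hi
      exact hx ⟨i, hi'⟩ a
    · intro i hi s hs h a
      have hi' : i < l := by rw [← hp.rank_eq]; exact hi
      obtain ⟨c, hc0, e⟩ := nact hp (K := k) (i := ⟨i, hi'⟩) hs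
      have h1 := e (c⁻¹ * a)
      rw [mul_inv_cancel_left₀ hc0, zz_vec hp hs, zz_vec hp (reflectRoot_lt hp.inList hi hs)] at h1
      rw [← h1]
      exact mul_mem (mul_mem (hn _) (h _)) (inv_mem (hn _))
  rw [eq_top_iff, ← closure_zz hp, Subgroup.closure_le]
  rintro g ⟨r, hr, a, rfl⟩
  exact hall r hr a

/-! ### the group data -/

variable (k) in
/-- **The group data of `D.group k`.** -/
noncomputable def gdat : H45.UniE.GDat (Fin l) (PR D) k ↥(D.group k) where
  x i := xc hp (sr i)
  y i := xc hp (-sr i)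
  z b := zz hp b.1
  zi := psr hp
  ht := htt D l
  T := TT D k
  δ := dl hp
  hh j c := hc hp j (c : k)
  τ := tau hp
  ht_pos := htt_pos hp
  x_eq i s := zz_simple hp i s
  z_add b s t := zz_add hp b.1 s t
  y_add i s t := by rw [zz_neg_simple, zz_neg_simple, zz_neg_simple, zz_add]
  δ_mul := dl_mul hp
  δ_mem := dl_mem hp
  hh_mem i c := hc_mem hp i c.ne_zero
  δ_z s b a := dl_zz hp s b a
  T_x t ht i := by
    have hi := NPerm.simple_lt hp.inList (lt_rank hp i)
    refine ⟨cX hp t⁻¹ (sr i), fun a => ?_⟩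
    have h1 := TT_zz hp (inv_mem ht) hi a
    rw [vec_simple hp i] at h1
    rw [zz_simple, zz_simple]
    calc zz hp (D.simple i) a * t = t * (t⁻¹ * zz hp (D.simple i) a) * t := by group
      _ = _ := by rw [h1]; group
  T_y t ht i := by
    have hi := NPerm.simple_lt hp.inList (lt_rank hp i)
    refine ⟨cX hp t (vec D l (D.neg (D.simple i))), fun a => ?_⟩
    rw [zz_neg_simple, zz_neg_simple]
    exact TT_zz hp ht (RootVec.neg_lt hp.checked hi) a
  comm i j a s hij := by
    rw [zz_simple, zz_neg_simple]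
    exact zz_comm hp hij a s
  rank i a s c hc := by
    rw [zz_simple, zz_simple, zz_neg_simple, zz_neg_simple]
    exact rank_one hp (NPerm.simple_lt hp.inList (lt_rank hp i)) a s c hc
  gen := closure_simple hp
  cmt i b s := by
    obtain ⟨L, h1, h2⟩ := zz_cmt hp i b s
    refine ⟨L, h1, fun t => ?_⟩
    rw [zz_simple, zz_simple]
    exact h2 t
  τ_mul := tau_mul hp
  τ_τ := tau_tau hp
  τ_x i s := by
    rw [zz_simple, zz_neg_simple]
    exact tau_zz hp (NPerm.simple_lt hp.inList (lt_rank hp i)) s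
  τ_T t ht := tau_TT hp ht

end Cfsg.Agent.H405.UE

private theorem dce_1ca5e259ce2b : _root_.True := by
  try have : _root_.True := by simp only [_root_.Cfsg.Agent.H405.UE.tau.congr_simp]
  try have : _root_.True := by simp only [_root_.Cfsg.Agent.H129.TorusChar.cX.congr_simp]
  try have : _root_.True := by simp only [_root_.Cfsg.Agent.H564.U.zz.congr_simp]
  try have : _root_.True := by simp only [_root_.Cfsg.Agent.KFacts.RgdChevCoord.hc.congr_simp]
  exact _root_.True.intro
end
end
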